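/-
Binary codes of length 24 as families of subsets: orthogonality, dimensions, packing.
-/
import Mathlib
import Cfsg.Prelude.Def_Sporadic_a

set_option autoImplicit false

namespace CfsgCode

open Cfsg
open scoped symmDiff

variable {α : Type*} [Fintype α] [DecidableEq α]

/-- The word of a set. -/
def chiW (s : Finset α) (a : α) : ZMod 2 := if a ∈ s then 1 else 0

theorem z2_cases (x : ZMod 2) : x = 0 ∨ x = 1 := by revert x; decide

theorem supp_chiW (s : Finset α) : support₂ (chiW s) = s := by
  ext a
  by_cases h : a ∈ s <;> simp [support₂, chiW, h]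

theorem chiW_supp (w : α → ZMod 2) : chiW (support₂ w) = w := by
  funext a
  rcases z2_cases (w a) with h | h <;> simp [support₂, chiW, h]

theorem chiW_inj {s t : Finset α} (h : chiW s = chiW t) : s = t := by
  rw [← supp_chiW s, h, supp_chiW]

theorem chiW_empty : chiW (∅ : Finset α) = 0 := by funext a; simp [chiW]

theorem chiW_add (s t : Finset α) : chiW s + chiW t = chiW (s ∆ t) := by
  funext a
  by_cases h1 : a ∈ s <;> by_cases h2 : a ∈ t <;> simp [chiW, Finset.mem_symmDiff, h1, h2]
  rfl

omit [DecidableEq α] in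
theorem add_self' (w : α → ZMod 2) : w + w = 0 := funext fun a => CharTwo.add_self_eq_zero (w a)

theorem dot_chiW (s t : Finset α) : ∑ a, chiW s a * chiW t a = ((s ∩ t).card : ZMod 2) := by
  rw [Finset.card_eq_sum_ones, Nat.cast_sum, ← Finset.sum_filter_add_sum_filter_not Finset.univ (· ∈ s ∩ t)]
  rw [show Finset.univ.filter (· ∈ s ∩ t) = s ∩ t by ext; simp]
  have h1 : ∀ a ∈ s ∩ t, chiW s a * chiW t a = ((1 : ℕ) : ZMod 2) := fun a ha => by
    rw [Finset.mem_inter] at ha; simp [chiW, ha.1, ha.2]
  have h2 : ∀ a ∈ Finset.univ.filter (fun a => ¬ a ∈ s ∩ t), chiW s a * chiW t a = 0 := fun a ha => by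
    rw [Finset.mem_filter, Finset.mem_inter] at ha
    by_cases h : a ∈ s <;> simp [chiW, h] at ha ⊢
    exact ha
  rw [Finset.sum_congr rfl h1, Finset.sum_eq_zero h2, add_zero]

omit [DecidableEq α] in
theorem hammingNorm_eq (w : α → ZMod 2) : hammingNorm w = (support₂ w).card := rfl

theorem card_symmDiff' (s t : Finset α) : (s ∆ t).card + 2 * (s ∩ t).card = s.card + t.card := by
  have h1 := Finset.card_sdiff_add_card_inter s t
  have h2 := Finset.card_sdiff_add_card_inter t s
  rw [Finset.inter_comm t s] at h2
  rw [symmDiff_def, Finset.sup_eq_union, Finset.card_union_of_disjoint disjoint_sdiff_sdiff]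
  omega

/-- The words orthogonal to a code. -/
def perp (C : Submodule (ZMod 2) (α → ZMod 2)) : Submodule (ZMod 2) (α → ZMod 2) where
  carrier := {w | ∀ v ∈ C, ∑ a, v a * w a = 0}
  zero_mem' := fun v _ => by simp
  add_mem' := fun {x y} hx hy v hv => by
    simp only [Pi.add_apply, mul_add, Finset.sum_add_distrib, hx v hv, hy v hv, add_zero]
  smul_mem' := fun c x hx v hv => by
    simp only [Pi.smul_apply, smul_eq_mul, mul_left_comm _ c, ← Finset.mul_sum, hx v hv, mul_zero]

theorem mem_perp {C : Submodule (ZMod 2) (α → ZMod 2)} {w : α → ZMod 2} :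
    w ∈ perp C ↔ ∀ v ∈ C, ∑ a, v a * w a = 0 := Iff.rfl

theorem chiW_mem_perp {C : Submodule (ZMod 2) (α → ZMod 2)} {s : Finset α} :
    chiW s ∈ perp C ↔ ∀ t, chiW t ∈ C → (t ∩ s).card % 2 = 0 := by
  constructor
  · intro h t ht
    have := h _ ht
    rw [dot_chiW] at this
    exact Nat.mod_eq_zero_of_dvd ((ZMod.natCast_eq_zero_iff _ 2).mp this) |> id
  · intro h v hv
    rw [← chiW_supp v] at hv ⊢
    rw [dot_chiW, ZMod.natCast_eq_zero_iff]
    exact Nat.dvd_of_mod_eq_zero (h _ hv)

theorem perp_span {S : Set (Finset α)} {s : Finset α} :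
    chiW s ∈ perp (Submodule.span (ZMod 2) (chiW '' S)) ↔ ∀ b ∈ S, (b ∩ s).card % 2 = 0 := by
  constructor
  · intro h b hb
    exact chiW_mem_perp.mp h b (Submodule.subset_span ⟨b, hb, rfl⟩)
  · intro h v hv
    induction hv using Submodule.span_induction with
    | mem x hx =>
      obtain ⟨b, hb, rfl⟩ := hx
      rw [dot_chiW, ZMod.natCast_eq_zero_iff]
      exact Nat.dvd_of_mod_eq_zero (h b hb)
    | zero => simp
    | add x y _ _ hx hy => simp only [Pi.add_apply, add_mul, Finset.sum_add_distrib, hx, hy, add_zero]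
    | smul c x _ hx => simp only [Pi.smul_apply, smul_eq_mul, mul_assoc, ← Finset.mul_sum, hx, mul_zero]

/-- The dot product as a bilinear form. -/
noncomputable def dotB : LinearMap.BilinForm (ZMod 2) (α → ZMod 2) :=
  LinearMap.mk₂ (ZMod 2) (fun v w => ∑ a, v a * w a)
    (fun x y w => by simp [add_mul, Finset.sum_add_distrib])
    (fun c x w => by simp [mul_assoc, Finset.mul_sum])
    (fun v x y => by simp [mul_add, Finset.sum_add_distrib])
    (fun c v x => by simp [mul_left_comm, Finset.mul_sum])

omit [DecidableEq α] in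
theorem dotB_refl : (dotB (α := α)).IsRefl := fun v w h => by
  show ∑ a, w a * v a = 0
  rw [← h]
  exact Finset.sum_congr rfl fun a _ => mul_comm _ _

theorem dotB_nondeg : (dotB (α := α)).Nondegenerate := by
  refine (LinearMap.IsRefl.nondegenerate_iff_separatingLeft dotB_refl).mpr fun v hv => funext fun a => ?_
  have h := hv (Pi.single a 1)
  change ∑ b, v b * (Pi.single a 1 : α → ZMod 2) b = 0 at h
  simpa [Finset.sum_eq_single a, Pi.single_apply] using h

omit [DecidableEq α] in
theorem perp_eq (C : Submodule (ZMod 2) (α → ZMod 2)) : perp C = dotB.orthogonal C := rfl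

theorem finrank_perp (C : Submodule (ZMod 2) (α → ZMod 2)) :
    Module.finrank (ZMod 2) C + Module.finrank (ZMod 2) (perp C) = Fintype.card α := by
  have h := LinearMap.BilinForm.finrank_orthogonal dotB_nondeg C
  rw [← perp_eq, Module.finrank_pi] at h
  have h2 := Submodule.finrank_le C
  rw [Module.finrank_pi] at h2
  omega

theorem perp_perp (C : Submodule (ZMod 2) (α → ZMod 2)) : perp (perp C) = C := by
  rw [perp_eq, perp_eq, LinearMap.BilinForm.orthogonal_orthogonal dotB_nondeg dotB_refl]

omit [DecidableEq α] in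
theorem card_code (C : Submodule (ZMod 2) (α → ZMod 2)) :
    Nat.card C = 2 ^ Module.finrank (ZMod 2) C := by
  rw [Module.natCard_eq_pow_finrank (K := ZMod 2) (V := C), Nat.card_zmod]

/-- A self-dual code with minimum weight eight. -/
structure IsGolay (C : Submodule (ZMod 2) (α → ZMod 2)) : Prop where
  card24 : Fintype.card α = 24
  dim : Module.finrank (ZMod 2) C = 12
  orth : ∀ v ∈ C, ∀ w ∈ C, ∑ i, v i * w i = 0
  min8 : ∀ s : Finset α, chiW s ∈ C → s ≠ ∅ → 8 ≤ s.card

/-- The sets of small size are pairwise incongruent modulo a code of minimum weight seven. -/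
theorem dim_le_of_min7 (h24 : Fintype.card α = 24) (P : Submodule (ZMod 2) (α → ZMod 2))
    (hmin : ∀ s : Finset α, chiW s ∈ P → s ≠ ∅ → 7 ≤ s.card) : Module.finrank (ZMod 2) P ≤ 12 := by
  set T := (Finset.range 4).biUnion fun k => (Finset.univ : Finset α).powersetCard k with hT
  have hinj : Function.Injective fun x : {s // s ∈ T} × P => chiW x.1.1 + (x.2 : α → ZMod 2) := by
    rintro ⟨⟨s, hs⟩, x⟩ ⟨⟨t, ht⟩, y⟩ h
    simp only [hT, Finset.mem_biUnion, Finset.mem_range, Finset.mem_powersetCard_univ] at hs ht
    have hst : chiW (s ∆ t) ∈ P := by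
      rw [← chiW_add]
      have : chiW s + chiW t = (x : α → ZMod 2) + (y : α → ZMod 2) := by
        simp only at h
        funext a
        have := congrFun h a
        simp only [Pi.add_apply] at this ⊢
        revert this
        generalize chiW s a = p
        generalize chiW t a = q
        generalize (x : α → ZMod 2) a = r
        generalize (y : α → ZMod 2) a = u
        revert p q r u
        decide
      rw [this]
      exact add_mem x.2 y.2
    have h0 : s ∆ t = ∅ := by
      by_contra hne
      have h7 := hmin _ hst hne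
      have := card_symmDiff' s t
      obtain ⟨k, hk, rfl⟩ := hs
      obtain ⟨l, hl, rfl⟩ := ht
      omega
    obtain rfl : s = t := symmDiff_eq_bot.mp h0
    simp only [add_right_inj, SetLike.coe_eq_coe] at h
    subst h
    rfl
  have hle := Nat.card_le_card_of_injective _ hinj
  rw [Nat.card_prod, card_code, Nat.card_fun, Nat.card_zmod, Nat.card_eq_fintype_card (α := α), h24,
    Nat.card_eq_finsetCard] at hle
  have hTc : T.card = 2325 := by
    rw [hT, Finset.card_biUnion]
    · simp only [Finset.card_powersetCard, Finset.card_univ, h24, Finset.sum_range_succ, Finset.sum_range_zero]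
      decide
    · intro i _ j _ hij
      exact Finset.disjoint_left.mpr fun s h1 h2 =>
        hij ((Finset.mem_powersetCard_univ.mp h1).symm.trans (Finset.mem_powersetCard_univ.mp h2))
  rw [hTc] at hle
  by_contra hlt
  have := Nat.pow_le_pow_right (show 1 ≤ 2 by norm_num) (not_le.mp hlt)
  omega

end CfsgCode
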