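/-
Steiner systems S(5,8,24) and self-dual codes of minimum weight eight determine each other.
-/
import Cfsg.Agent.Lib.GolayUnique.Basic
import Cfsg.Agent.Lib.SteinerCount

set_option autoImplicit false

namespace CfsgCode

open Cfsg CfsgSteiner
open scoped symmDiff

variable {α : Type*} [Fintype α] [DecidableEq α]

noncomputable local instance decQuot (C : Submodule (ZMod 2) (α → ZMod 2)) : DecidableEq ((α → ZMod 2) ⧸ C) :=
  Classical.decEq _

omit [Fintype α] [DecidableEq α] in
theorem sub_add' (v w : α → ZMod 2) : v - w = v + w := funext fun a => CharTwo.sub_eq_add (v a) (w a)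

/-- The code spanned by a family of sets. -/
def spanOf (B : Set (Finset α)) : Submodule (ZMod 2) (α → ZMod 2) := Submodule.span (ZMod 2) (chiW '' B)

theorem span_le_perp {B : Set (Finset α)} (h : ∀ b ∈ B, ∀ c ∈ B, (b ∩ c).card % 2 = 0) :
    spanOf B ≤ perp (spanOf B) := by
  refine Submodule.span_le.mpr ?_
  rintro _ ⟨b, hb, rfl⟩
  exact perp_span.mpr fun c hc => h c hc b hb

/-- Doubly even generators with even meets span a doubly even code. -/
theorem span_four {B : Set (Finset α)} (h : ∀ b ∈ B, ∀ c ∈ B, (b ∩ c).card % 2 = 0)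
    (h4 : ∀ b ∈ B, b.card % 4 = 0) {s : Finset α} (hs : chiW s ∈ spanOf B) : s.card % 4 = 0 := by
  suffices H : ∀ w ∈ spanOf B, (support₂ w).card % 4 = 0 by
    have := H _ hs; rwa [supp_chiW] at this
  intro w hw
  refine Submodule.span_induction (fun x hx => ?_) ?_ (fun x y hx hy px py => ?_) (fun c x _ px => ?_) hw
  · obtain ⟨b, hb, rfl⟩ := hx
    rw [supp_chiW]; exact h4 b hb
  · simp [support₂]
  · rw [← chiW_supp x] at hx ⊢
    rw [← chiW_supp y] at hy ⊢
    rw [chiW_add, supp_chiW]
    have := card_symmDiff' (support₂ x) (support₂ y)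
    have := chiW_mem_perp.mp (span_le_perp h hy) _ hx
    omega
  · rcases z2_cases c with rfl | rfl
    · rw [zero_smul]; simp [support₂]
    · rw [one_smul]; exact px

/-- Meets of a small set with the blocks through parity. -/
theorem parity_moments {t k v : ℕ} {B : Set (Finset α)} (hB : IsSteinerSystem t k B) (hv : Fintype.card α = v)
    (htk : t ≤ k) {w : Finset α} {m : ℕ} (hm : w.card < m) {p : ℕ} (hp : ∀ b ∈ B, (b ∩ w).card % 2 = p) :
    ∃ n : ℕ → ℕ, (∀ j, j % 2 ≠ p → n j = 0) ∧ (∀ j, w.card < j → n j = 0) ∧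
      ∀ i L : ℕ, i ≤ t → L * Nat.choose (k - i) (t - i) = Nat.choose (v - i) (t - i) →
        ∑ j ∈ Finset.range m, n j * Nat.choose j i = Nat.choose w.card i * L := by
  refine ⟨fun j => (((blocks B).filter ((∅ : Finset α) ⊆ ·)).filter fun d => (d ∩ w).card = j).card,
    fun j hj => ?_, fun j hj => ?_, fun i L hi hL => ?_⟩
  · simp only [Finset.card_eq_zero, Finset.filter_eq_empty_iff]
    intro d hd he
    simp only [Finset.mem_filter, mem_blocks] at hd
    exact hj (he ▸ hp d hd.1)
  · simp only [Finset.card_eq_zero, Finset.filter_eq_empty_iff]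
    intro d _ he
    have := Finset.card_le_card (Finset.inter_subset_right (s₁ := d) (s₂ := w))
    omega
  · rw [← moment_grouped _ w i m (fun d _ => lt_of_le_of_lt (Finset.card_le_card Finset.inter_subset_right) hm)]
    exact moment hB hv htk (Finset.disjoint_empty_left w) (by simpa using hi) (by simpa using hL)

theorem perp_min7 (hα : Fintype.card α = 24) {B : Set (Finset α)} (hB : IsSteinerSystem 5 8 B) {w : Finset α}
    (hw : chiW w ∈ perp (spanOf B)) (hne : w ≠ ∅) : 7 ≤ w.card := by
  by_contra hlt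
  have hc : 0 < w.card := Finset.card_pos.mpr (Finset.nonempty_iff_ne_empty.mpr hne)
  obtain ⟨n, h0, hbig, hmom⟩ := parity_moments hB hα (by norm_num) (w := w) (m := 7) (by omega) (p := 0)
    (perp_span.mp hw)
  have e0 := hmom 0 759 (by norm_num) (by decide)
  have e1 := hmom 1 253 (by norm_num) (by decide)
  have e2 := hmom 2 77 (by norm_num) (by decide)
  have e3 := hmom 3 21 (by norm_num) (by decide)
  have e4 := hmom 4 5 (by norm_num) (by decide)
  have e5 := hmom 5 1 (by norm_num) (by decide)
  have o1 := h0 1 (by norm_num)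
  have o3 := h0 3 (by norm_num)
  have o5 := h0 5 (by norm_num)
  have b2 := hbig 2
  have b4 := hbig 4
  have b6 := hbig 6
  revert e0 e1 e2 e3 e4 e5 b2 b4 b6
  interval_cases w.card <;>
    simp [Finset.sum_range_succ, o1, o3, o5, Nat.choose_eq_descFactorial_div_factorial, Nat.descFactorial,
      Nat.factorial] <;> omega

theorem golay_of_steiner (hα : Fintype.card α = 24) {B : Set (Finset α)} (hB : IsSteinerSystem 5 8 B) :
    IsGolay (spanOf B) ∧ perp (spanOf B) = spanOf B ∧ ∀ s : Finset α, chiW s ∈ spanOf B → s.card % 4 = 0 := by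
  have heven : ∀ b ∈ B, ∀ c ∈ B, (b ∩ c).card % 2 = 0 := by
    intro b hb c hc
    by_cases h : b = c
    · subst h; rw [Finset.inter_self, hB.1 b hb]
    · rcases inter_5_8_24 hα hB hb hc h with h | h | h <;> omega
  have hfour : ∀ s : Finset α, chiW s ∈ spanOf B → s.card % 4 = 0 :=
    fun s hs => span_four heven (fun b hb => by rw [hB.1 b hb]) hs
  have hle := span_le_perp heven
  have h1 := dim_le_of_min7 hα (perp (spanOf B)) fun s hs hne => perp_min7 hα hB hs hne
  have h2 := finrank_perp (spanOf B)
  rw [hα] at h2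
  have h3 := Submodule.finrank_mono hle
  have heq : perp (spanOf B) = spanOf B := (Submodule.eq_of_le_of_finrank_eq hle (by omega)).symm
  refine ⟨⟨hα, by omega, fun v hv w hw => mem_perp.mp (hle hw) v hv, fun s hs hne => ?_⟩, heq, hfour⟩
  have h7 := perp_min7 hα hB (w := s) (by rw [heq]; exact hs) hne
  have := hfour s hs
  omega

/-- The supports of weight eight. -/
def octS (C : Submodule (ZMod 2) (α → ZMod 2)) : Set (Finset α) := {s | chiW s ∈ C ∧ s.card = 8}

theorem wordsOfWeight_eq_octS (C : Submodule (ZMod 2) (α → ZMod 2)) :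
    wordsOfWeight (C : Set (α → ZMod 2)) 8 = octS C := by
  ext s
  constructor
  · rintro ⟨⟨w, hw, rfl⟩, h8⟩
    exact ⟨by rw [chiW_supp]; exact hw, h8⟩
  · rintro ⟨hs, h8⟩
    exact ⟨⟨chiW s, hs, supp_chiW s⟩, h8⟩

theorem octad_eq {C : Submodule (ZMod 2) (α → ZMod 2)} (hC : IsGolay C) {s t : Finset α}
    (hs : s ∈ octS C) (ht : t ∈ octS C) (h5 : 5 ≤ (s ∩ t).card) : s = t := by
  by_contra hne
  have hd : chiW (s ∆ t) ∈ C := by rw [← chiW_add]; exact add_mem hs.1 ht.1
  have h8 := hC.min8 _ hd fun h => hne (symmDiff_eq_bot.mp h)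
  have := card_symmDiff' s t
  rw [hs.2, ht.2] at this
  omega

theorem octS_span_steiner (hα : Fintype.card α = 24) {B : Set (Finset α)} (hB : IsSteinerSystem 5 8 B) :
    octS (spanOf B) = B := by
  obtain ⟨hG, -, -⟩ := golay_of_steiner hα hB
  ext s
  constructor
  · intro hs
    obtain ⟨u, hu, hu5⟩ := Finset.exists_subset_card_eq (show 5 ≤ s.card by rw [hs.2]; norm_num)
    obtain ⟨b, ⟨hb, hub⟩, -⟩ := hB.2 u hu5
    rw [octad_eq hG hs (t := b) ⟨Submodule.subset_span ⟨b, hb, rfl⟩, hB.1 b hb⟩
      (hu5 ▸ Finset.card_le_card (Finset.subset_inter hu hub))]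
    exact hb
  · intro hs
    exact ⟨Submodule.subset_span ⟨s, hs, rfl⟩, hB.1 s hs⟩

/-- The cosets, by their short words. -/
theorem coset_cases {C : Submodule (ZMod 2) (α → ZMod 2)} (hC : IsGolay C) (q : (α → ZMod 2) ⧸ C) :
    (∃! s : Finset α, s.card ≤ 4 ∧ Submodule.Quotient.mk (chiW s) = q) ∧
      (∃ s : Finset α, s.card ≤ 3 ∧ Submodule.Quotient.mk (chiW s) = q) ∨
    ((Finset.univ.powersetCard 4).filter fun s => Submodule.Quotient.mk (chiW s) = q).card = 6 ∧
      (∀ s : Finset α, s.card ≤ 4 → Submodule.Quotient.mk (chiW s) = q → s.card = 4) ∧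
      ∀ s : Finset α, ∀ t : Finset α, s.card = 4 → t.card = 4 → Submodule.Quotient.mk (chiW s) = q →
        Submodule.Quotient.mk (chiW t) = q → s ≠ t → Disjoint s t := by
  classical
  let m : Finset α → (α → ZMod 2) ⧸ C := fun s => Submodule.Quotient.mk (chiW s)
  have key : ∀ s t : Finset α, m s = m t → s = t ∨ 8 + 2 * (s ∩ t).card ≤ s.card + t.card := by
    intro s t h
    have hd : chiW (s ∆ t) ∈ C := by
      have h' := (Submodule.Quotient.eq C).mp h
      rwa [sub_add', chiW_add] at h'
    by_cases he : s ∆ t = ∅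
    · exact Or.inl (symmDiff_eq_bot.mp he)
    · have := hC.min8 _ hd he
      have := card_symmDiff' s t
      omega
  set T := (Finset.range 4).biUnion fun k => (Finset.univ : Finset α).powersetCard k with hT
  set F4 := (Finset.univ : Finset α).powersetCard 4 with hF4
  have memT : ∀ {s}, s ∈ T ↔ s.card ≤ 3 := fun {s} => by
    simp [hT, Finset.mem_powersetCard_univ, Nat.lt_succ_iff]
  have memF : ∀ {s}, s ∈ F4 ↔ s.card = 4 := Finset.mem_powersetCard_univ
  haveI : Fintype ((α → ZMod 2) ⧸ C) := Fintype.ofFinite _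
  by_cases hq : ∃ s ∈ T, m s = q
  · left
    obtain ⟨s, hs, hsq⟩ := hq
    refine ⟨⟨s, ⟨(memT.mp hs).trans (by norm_num), hsq⟩, fun t ht => ?_⟩, s, memT.mp hs, hsq⟩
    rcases key t s (ht.2.trans hsq.symm) with h | h
    · exact h
    · have := memT.mp hs; have := ht.1; omega
  · right
    have hdisj : ∀ s t : Finset α, s.card = 4 → t.card = 4 → m s = m t → s ≠ t → Disjoint s t := by
      intro s t hs ht h hne
      rw [Finset.disjoint_iff_inter_eq_empty, ← Finset.card_eq_zero]
      have := (key s t h).resolve_left hne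
      omega
    have hfib : ∀ r, (F4.filter fun s => m s = r).card ≤ 6 := by
      intro r
      have hpd : ((F4.filter fun s => m s = r) : Set (Finset α)).PairwiseDisjoint id := by
        intro s hs t ht hne
        simp only [Finset.coe_filter, Set.mem_ofPred_eq] at hs ht
        exact hdisj s t (memF.mp hs.1) (memF.mp ht.1) (hs.2.trans ht.2.symm) hne
      have h1 := Finset.card_biUnion hpd
      rw [Finset.sum_congr rfl (fun s hs => show (id s).card = 4 from memF.mp (Finset.mem_filter.mp hs).1),
        Finset.sum_const, smul_eq_mul] at h1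
      have h2 := Finset.card_le_univ ((F4.filter fun s => m s = r).biUnion id)
      rw [hC.card24] at h2
      omega
    have hinj : Set.InjOn m T := fun s hs t ht h => by
      rcases key s t h with h | h
      · exact h
      · have := memT.mp hs; have := memT.mp ht; omega
    have hcQ : Fintype.card ((α → ZMod 2) ⧸ C) = 4096 := by
      have h := Submodule.card_eq_card_quotient_mul_card C
      rw [card_code, hC.dim, Nat.card_fun, Nat.card_zmod, Nat.card_eq_fintype_card (α := α), hC.card24,
        ← Nat.card_eq_fintype_card] at *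
      omega
    set R := (T.image m)ᶜ with hR
    have hTc : T.card = 2325 := by
      rw [hT, Finset.card_biUnion]
      · simp only [Finset.card_powersetCard, Finset.card_univ, hC.card24, Finset.sum_range_succ,
          Finset.sum_range_zero]
        decide
      · intro i _ j _ hij
        exact Finset.disjoint_left.mpr fun s h1 h2 =>
          hij ((Finset.mem_powersetCard_univ.mp h1).symm.trans (Finset.mem_powersetCard_univ.mp h2))
    have hRc : R.card = 1771 := by
      rw [hR, Finset.card_compl, Finset.card_image_of_injOn hinj, hTc, hcQ]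
    have hmaps : ∀ s ∈ F4, m s ∈ R := by
      intro s hs
      rw [hR, Finset.mem_compl, Finset.mem_image]
      rintro ⟨t, ht, he⟩
      rcases key t s he with h | h
      · subst h; have := memT.mp ht; have := memF.mp hs; omega
      · have := memT.mp ht; have := memF.mp hs; omega
    have hsum := Finset.card_eq_sum_card_fiberwise hmaps
    rw [hF4, Finset.card_powersetCard, Finset.card_univ, hC.card24, show Nat.choose 24 4 = 10626 by decide,
      ← hF4] at hsum
    have hall := (Finset.sum_eq_sum_iff_of_le (fun r (_ : r ∈ R) => hfib r)).mp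
      (by rw [← hsum, Finset.sum_const, hRc]; rfl)
    refine ⟨hall q (by rw [hR, Finset.mem_compl, Finset.mem_image]; exact hq), fun s hs hsq => ?_,
      fun s t hs ht hsq htq => hdisj s t hs ht (hsq.trans htq.symm)⟩
    · by_contra hne
      exact hq ⟨s, memT.mpr (by omega), hsq⟩

theorem octS_steiner {C : Submodule (ZMod 2) (α → ZMod 2)} (hC : IsGolay C) :
    IsSteinerSystem 5 8 (octS C) := by
  classical
  refine ⟨fun b hb => hb.2, fun s hs => ?_⟩
  obtain ⟨a, ha⟩ : ∃ a, a ∈ s := Finset.card_pos.mp (by omega)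
  set T := s.erase a with hTdef
  have hT4 : T.card = 4 := by rw [hTdef, Finset.card_erase_of_mem ha, hs]
  rcases coset_cases hC (Submodule.Quotient.mk (chiW T)) with ⟨⟨u, hu, huniq⟩, v, hv, hvq⟩ | ⟨h6, -, hdisj⟩
  · have h1 := huniq T ⟨hT4.le, rfl⟩
    have h2 := huniq v ⟨by omega, hvq⟩
    subst h2; subst h1; omega
  · set F := ((Finset.univ : Finset α).powersetCard 4).filter fun t =>
      (Submodule.Quotient.mk (chiW t) : (α → ZMod 2) ⧸ C) = Submodule.Quotient.mk (chiW T) with hF
    have hpd : (F : Set (Finset α)).PairwiseDisjoint id := by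
      intro x hx y hy hne
      simp only [hF, Finset.coe_filter, Set.mem_ofPred_eq, Finset.mem_powersetCard_univ] at hx hy
      exact hdisj x y hx.1 hy.1 hx.2 hy.2 hne
    have hcov : F.biUnion id = Finset.univ := by
      refine Finset.eq_univ_of_card _ ?_
      rw [Finset.card_biUnion hpd, Finset.sum_congr rfl (fun x hx => show (id x).card = 4 from
        Finset.mem_powersetCard_univ.mp (Finset.mem_filter.mp hx).1), Finset.sum_const, h6, hC.card24]
      rfl
    have haU : a ∈ F.biUnion id := by rw [hcov]; exact Finset.mem_univ a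
    obtain ⟨T', hT', haT'⟩ := Finset.mem_biUnion.mp haU
    simp only [hF, Finset.mem_filter, Finset.mem_powersetCard_univ] at hT'
    have haT : a ∉ T := fun h => (Finset.mem_erase.mp h).1 rfl
    have hne : T ≠ T' := fun h => haT (h ▸ haT')
    have hd := hdisj T T' hT4 hT'.1 rfl hT'.2 hne
    have hu : T ∆ T' = T ∪ T' := hd.symmDiff_eq_sup
    have hmem : T ∆ T' ∈ octS C := by
      refine ⟨?_, by rw [hu, Finset.card_union_of_disjoint hd, hT4, hT'.1]⟩
      have h' := (Submodule.Quotient.eq C).mp hT'.2
      rwa [sub_add', add_comm, chiW_add] at h'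
    have hsub : s ⊆ T ∆ T' := by
      rw [hu]
      intro x hx
      by_cases hxa : x = a
      · subst hxa; exact Finset.mem_union_right _ haT'
      · exact Finset.mem_union_left _ (Finset.mem_erase.mpr ⟨hxa, hx⟩)
    exact ⟨_, ⟨hmem, hsub⟩, fun b hb => octad_eq hC hb.1 hmem
      (hs ▸ Finset.card_le_card (Finset.subset_inter hb.2 hsub))⟩

theorem span_octS {C : Submodule (ZMod 2) (α → ZMod 2)} (hC : IsGolay C) : spanOf (octS C) = C := by
  obtain ⟨hG, -, -⟩ := golay_of_steiner hC.card24 (octS_steiner hC)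
  refine Submodule.eq_of_le_of_finrank_eq (Submodule.span_le.mpr ?_) (by rw [hG.dim, hC.dim])
  rintro _ ⟨b, hb, rfl⟩
  exact hb.1

theorem IsGolay.four {C : Submodule (ZMod 2) (α → ZMod 2)} (hC : IsGolay C) {s : Finset α} (hs : chiW s ∈ C) :
    s.card % 4 = 0 :=
  (golay_of_steiner hC.card24 (octS_steiner hC)).2.2 s (by rw [span_octS hC]; exact hs)

theorem IsGolay.perp_eq {C : Submodule (ZMod 2) (α → ZMod 2)} (hC : IsGolay C) : perp C = C := by
  refine (Submodule.eq_of_le_of_finrank_eq (show C ≤ perp C from fun w hw v hv => hC.orth v hv w hw) ?_).symm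
  have := finrank_perp C
  rw [hC.dim, hC.card24] at this
  have := hC.dim
  omega

end CfsgCode
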