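/-
A self-dual code of minimum weight eight seen from one of its octads.
-/
import Cfsg.Agent.Lib.GolayUnique.Steiner

set_option autoImplicit false

namespace CfsgCode

open Cfsg
open scoped symmDiff

variable {α : Type*} [Fintype α] [DecidableEq α]

/-- The words vanishing on a set. -/
def offW (O : Finset α) : Submodule (ZMod 2) (α → ZMod 2) where
  carrier := {w | ∀ a ∈ O, w a = 0}
  zero_mem' := fun _ _ => rfl
  add_mem' := fun {x y} hx hy a ha => by simp [hx a ha, hy a ha]
  smul_mem' := fun c x hx a ha => by simp [hx a ha]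

omit [Fintype α] in
theorem mem_offW {O : Finset α} {w : α → ZMod 2} : w ∈ offW O ↔ ∀ a ∈ O, w a = 0 := Iff.rfl

omit [Fintype α] in
theorem chiW_mem_offW {O s : Finset α} : chiW s ∈ offW O ↔ Disjoint s O := by
  rw [mem_offW, Finset.disjoint_left]
  constructor
  · intro h a ha haO
    have := h a haO
    simp [chiW, ha] at this
  · intro h a haO
    have : a ∉ s := fun ha => h ha haO
    simp [chiW, this]

theorem perp_offW (O : Finset α) : perp (offW O) = offW Oᶜ := by
  ext w
  constructor
  · intro h a ha
    have hv : (Pi.single a 1 : α → ZMod 2) ∈ offW O := fun b hb => by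
      rw [Finset.mem_compl] at ha
      exact Pi.single_eq_of_ne (fun e => ha (by rw [← e]; exact hb)) 1
    have := h _ hv
    simpa [Finset.sum_eq_single a, Pi.single_apply] using this
  · intro h v hv
    refine Finset.sum_eq_zero fun a _ => ?_
    by_cases ha : a ∈ O
    · rw [hv a ha, zero_mul]
    · rw [h a (Finset.mem_compl.mpr ha), mul_zero]

/-- A word orthogonal to the part of `C` off `O` is a word of `C` changed on `O`. -/
theorem perp_inter {C : Submodule (ZMod 2) (α → ZMod 2)} (hC : IsGolay C) (O : Finset α) :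
    perp (C ⊓ offW O) = C ⊔ offW Oᶜ := by
  have h : perp (C ⊔ offW Oᶜ) = C ⊓ offW O := by
    refine le_antisymm (fun w hw => Submodule.mem_inf.mpr ⟨?_, ?_⟩) ?_
    · rw [← hC.perp_eq]
      exact fun v hv => hw v (Submodule.mem_sup_left hv)
    · have : w ∈ perp (offW Oᶜ) := fun v hv => hw v (Submodule.mem_sup_right hv)
      rw [perp_offW, compl_compl] at this
      exact this
    · intro w hw v hv
      obtain ⟨hw1, hw2⟩ := Submodule.mem_inf.mp hw
      obtain ⟨a, ha, b, hb, rfl⟩ := Submodule.mem_sup.mp hv
      simp only [Pi.add_apply, add_mul, Finset.sum_add_distrib, hC.orth a ha w hw1, zero_add]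
      refine Finset.sum_eq_zero fun x _ => ?_
      by_cases hx : x ∈ O
      · rw [hw2 x hx, mul_zero]
      · rw [hb x (Finset.mem_compl.mpr hx), zero_mul]
  rw [← h, perp_perp]

/-- An octad of a code. -/
structure OctadIn (C : Submodule (ZMod 2) (α → ZMod 2)) (O : Finset α) : Prop where
  golay : IsGolay C
  mem : O ∈ octS C

variable {C : Submodule (ZMod 2) (α → ZMod 2)} {O : Finset α}

theorem OctadIn.inside (h : OctadIn C O) {x : Finset α} (hx : chiW x ∈ C) (hsub : x ⊆ O) : x = ∅ ∨ x = O := by
  by_cases he : x = ∅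
  · exact Or.inl he
  · exact Or.inr (Finset.eq_of_subset_of_card_le hsub (by rw [h.mem.2]; exact h.golay.min8 x hx he))

theorem OctadIn.one_mem (h : OctadIn C O) : chiW (Finset.univ : Finset α) ∈ C := by
  rw [← h.golay.perp_eq]
  refine chiW_mem_perp.mpr fun t ht => ?_
  rw [Finset.inter_univ]
  have := h.golay.four ht
  omega

theorem OctadIn.compl_mem (h : OctadIn C O) : chiW Oᶜ ∈ C := by
  have := add_mem h.one_mem h.mem.1
  rwa [chiW_add, show (Finset.univ : Finset α) ∆ O = Oᶜ from top_symmDiff O] at this

/-- The part of a word on `O`. -/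
def resO (O : Finset α) : (α → ZMod 2) →ₗ[ZMod 2] (↥O → ZMod 2) :=
  LinearMap.funLeft (ZMod 2) (ZMod 2) (fun a : ↥O => (a : α))

/-- Extension by zero. -/
def extO (O : Finset α) (u : ↥O → ZMod 2) (a : α) : ZMod 2 := if h : a ∈ O then u ⟨a, h⟩ else 0

theorem OctadIn.res_range (h : OctadIn C O) :
    LinearMap.range ((resO O).domRestrict C) = perp (Submodule.span (ZMod 2) {(1 : ↥O → ZMod 2)}) := by
  have hperp : perp (LinearMap.range ((resO O).domRestrict C)) ≤ Submodule.span (ZMod 2) {(1 : ↥O → ZMod 2)} := by
    intro u hu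
    have hext : extO O u ∈ C := by
      rw [← h.golay.perp_eq]
      intro v hv
      have h1 := hu _ (LinearMap.mem_range_self _ ⟨v, hv⟩)
      rw [← h1]
      have : ∀ a : ↥O, ((resO O).domRestrict C ⟨v, hv⟩) a * u a = v a * extO O u a := fun a => by
        simp [resO, extO, LinearMap.funLeft_apply, a.2]
      rw [Finset.sum_congr rfl fun a _ => this a, Finset.sum_coe_sort O fun a => v a * extO O u a]
      exact (Finset.sum_subset (Finset.subset_univ O) fun a _ ha => by simp [extO, ha]).symm
    have hs : support₂ (extO O u) ⊆ O := fun a ha => by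
      simp only [support₂, Finset.mem_filter, Finset.mem_univ, true_and] at ha
      by_contra hh
      exact ha (by simp [extO, hh])
    rcases h.inside (by rw [chiW_supp]; exact hext) hs with he | he
    · have : u = 0 := funext fun a => by
        have := congrFun ((chiW_supp (extO O u)).symm.trans (congrArg chiW he)) a
        simpa [extO, chiW, a.2] using this
      rw [this]; exact zero_mem _
    · have : u = 1 := funext fun a => by
        have := congrFun ((chiW_supp (extO O u)).symm.trans (congrArg chiW he)) a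
        simpa [extO, chiW, a.2] using this
      rw [this]; exact Submodule.mem_span_singleton_self _
  refine le_antisymm ?_ ?_
  · rintro _ ⟨⟨v, hv⟩, rfl⟩ w hw
    obtain ⟨c, rfl⟩ := Submodule.mem_span_singleton.mp hw
    have h1 := h.golay.orth (chiW O) h.mem.1 v hv
    rw [← Finset.sum_subset (Finset.subset_univ O) (fun a _ ha => by simp [chiW, ha]),
      ← Finset.sum_coe_sort O fun a => chiW O a * v a] at h1
    calc ∑ a : ↥O, (c • (1 : ↥O → ZMod 2)) a * ((resO O).domRestrict C ⟨v, hv⟩) a
        = c * ∑ a : ↥O, chiW O (a : α) * v (a : α) := by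
          rw [Finset.mul_sum]
          exact Finset.sum_congr rfl fun a _ => by simp [resO, chiW, LinearMap.funLeft_apply, a.2]
      _ = 0 := by rw [h1, mul_zero]
  · intro u hu
    rw [← perp_perp (LinearMap.range ((resO O).domRestrict C))]
    exact fun v hv => hu v (hperp hv)

theorem OctadIn.exists_off (h : OctadIn C O) {x : Finset α} (hx : x ⊆ O) (hev : x.card % 2 = 0) :
    ∃ y, Disjoint y O ∧ chiW x + chiW y ∈ C := by
  have hmem : resO O (chiW x) ∈ LinearMap.range ((resO O).domRestrict C) := by
    rw [h.res_range]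
    intro w hw
    obtain ⟨c, rfl⟩ := Submodule.mem_span_singleton.mp hw
    calc ∑ a : ↥O, (c • (1 : ↥O → ZMod 2)) a * resO O (chiW x) a
        = c * ∑ a : ↥O, chiW x (a : α) := by
          rw [Finset.mul_sum]
          exact Finset.sum_congr rfl fun a _ => by simp [resO, LinearMap.funLeft_apply]
      _ = c * (x.card : ZMod 2) := by
          rw [Finset.sum_coe_sort O (chiW x), show ∑ a ∈ O, chiW x a = ∑ a ∈ O, if a ∈ x then (1 : ZMod 2) else 0 from rfl,
            Finset.sum_boole]
          congr 2
          exact congrArg Finset.card (Finset.ext fun a => by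
            simp only [Finset.mem_filter]; exact ⟨fun h => h.2, fun h => ⟨hx h, h⟩⟩)
      _ = 0 := by rw [(ZMod.natCast_eq_zero_iff _ 2).mpr (Nat.dvd_of_mod_eq_zero hev), mul_zero]
  obtain ⟨⟨v, hv⟩, he⟩ := hmem
  refine ⟨(support₂ v).filter (· ∉ O), Finset.disjoint_left.mpr fun a ha => (Finset.mem_filter.mp ha).2, ?_⟩
  convert hv using 1
  funext a
  rw [Pi.add_apply]
  by_cases ha : a ∈ O
  · have h1 := congrFun he ⟨a, ha⟩
    simp only [resO, LinearMap.domRestrict_apply, LinearMap.funLeft_apply] at h1
    simp [chiW, ha, h1]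
  · have hax : a ∉ x := fun hh => ha (hx hh)
    rcases z2_cases (v a) with e | e <;> simp [chiW, support₂, ha, hax, e]

/-- The words of `C` off `O`. -/
theorem OctadIn.off_finrank (h : OctadIn C O) : Module.finrank (ZMod 2) ↥(C ⊓ offW O) = 5 := by
  set f := (resO O).domRestrict C
  have h1 := LinearMap.finrank_range_add_finrank_ker f
  have h2 : Module.finrank (ZMod 2) (LinearMap.range f) = 7 := by
    rw [h.res_range]
    have h3 := finrank_perp (Submodule.span (ZMod 2) {(1 : ↥O → ZMod 2)})
    rw [finrank_span_singleton, Fintype.card_coe, h.mem.2] at h3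
    · omega
    · intro h0
      obtain ⟨a, ha⟩ := Finset.card_pos.mp (show 0 < O.card by rw [h.mem.2]; norm_num)
      exact one_ne_zero (congrFun h0 ⟨a, ha⟩)
  have h4 : LinearMap.ker f = (C ⊓ offW O).comap C.subtype := by
    ext v
    simp only [LinearMap.mem_ker, Submodule.mem_comap, Submodule.coe_subtype, Submodule.mem_inf, SetLike.coe_mem,
      true_and, mem_offW, funext_iff, Subtype.forall]
    exact Iff.rfl
  have h5 : Module.finrank (ZMod 2) (LinearMap.ker f) = Module.finrank (ZMod 2) ↥(C ⊓ offW O) := by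
    rw [h4]
    exact (Submodule.comapSubtypeEquivOfLe inf_le_left).finrank_eq
  rw [h2, h5, h.golay.dim] at h1
  omega

/-- The all-one word off `O`. -/
def OctadIn.oneOff (h : OctadIn C O) : ↥(C ⊓ offW O) :=
  ⟨chiW Oᶜ, h.compl_mem, chiW_mem_offW.mpr disjoint_compl_left⟩

/-- Evaluation at a point off `O`. -/
def evalOff (C : Submodule (ZMod 2) (α → ZMod 2)) (O : Finset α) (a : α) :
    Module.Dual (ZMod 2) ↥(C ⊓ offW O) :=
  (LinearMap.proj a).comp (C ⊓ offW O).subtype

theorem OctadIn.eval_one (h : OctadIn C O) {a : α} (ha : a ∉ O) : evalOff C O a h.oneOff = 1 := by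
  show chiW Oᶜ a = 1
  simp [chiW, ha]

theorem OctadIn.eval_inj (h : OctadIn C O) {a b : α} (ha : a ∉ O) (hb : b ∉ O)
    (he : evalOff C O a = evalOff C O b) : a = b := by
  by_contra hne
  have hperp : chiW ({a, b} : Finset α) ∈ perp (C ⊓ offW O) := by
    intro v hv
    have h1 : v a = v b := LinearMap.congr_fun he ⟨v, hv⟩
    rw [← Finset.sum_subset (Finset.subset_univ {a, b}) (fun x _ hx => by simp [chiW, hx]), Finset.sum_pair hne, h1]
    simp only [chiW, Finset.mem_insert, Finset.mem_singleton, true_or, or_true, if_true, mul_one]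
    exact CharTwo.add_self_eq_zero _
  rw [perp_inter h.golay] at hperp
  obtain ⟨c, hc, z, hz, hsum⟩ := Submodule.mem_sup.mp hperp
  set x := support₂ z
  have hxO : x ⊆ O := fun u hu => by
    simp only [x, support₂, Finset.mem_filter, Finset.mem_univ, true_and] at hu
    by_contra hh
    exact hu (hz u (Finset.mem_compl.mpr hh))
  have hc' : chiW (({a, b} : Finset α) ∆ x) ∈ C := by
    rw [← chiW_add, chiW_supp, ← hsum, add_assoc, add_self', add_zero]
    exact hc
  have hd : Disjoint ({a, b} : Finset α) x := by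
    rw [Finset.disjoint_left]
    intro u hu hux
    rcases Finset.mem_insert.mp hu with rfl | hu
    · exact ha (hxO hux)
    · rw [Finset.mem_singleton] at hu; subst hu; exact hb (hxO hux)
  have hcard : (({a, b} : Finset α) ∆ x).card = 2 + x.card := by
    rw [hd.symmDiff_eq_sup, Finset.sup_eq_union, Finset.card_union_of_disjoint hd, Finset.card_pair hne]
  have h2 : chiW ((({a, b} : Finset α) ∆ x) ∆ O) ∈ C := by rw [← chiW_add]; exact add_mem hc' h.mem.1
  have hcard2 := card_symmDiff' (({a, b} : Finset α) ∆ x) O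
  have hi : (({a, b} : Finset α) ∆ x) ∩ O = x := by
    ext u
    simp only [Finset.mem_inter, Finset.mem_symmDiff, Finset.mem_insert, Finset.mem_singleton]
    constructor
    · rintro ⟨(⟨rfl | rfl, -⟩ | ⟨h1, -⟩), huO⟩
      exacts [absurd huO ha, absurd huO hb, h1]
    · intro hu
      exact ⟨Or.inr ⟨hu, fun hh => Finset.disjoint_left.mp hd (by simp [hh]) hu⟩, hxO hu⟩
  rw [hi, hcard, h.mem.2] at hcard2
  have f1 := h.golay.four hc'
  have f2 := h.golay.four h2
  have m1 := h.golay.min8 _ hc' (fun e => by rw [e] at hcard; simp at hcard; omega)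
  have hle : x.card ≤ 8 := h.mem.2 ▸ Finset.card_le_card hxO
  by_cases e : (({a, b} : Finset α) ∆ x) ∆ O = ∅
  · rw [e] at hcard2; simp at hcard2; omega
  · have := h.golay.min8 _ h2 e
    omega

end CfsgCode
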