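/-
Two codes with a common octad and a common part off it differ by a permutation of the octad.
-/
import Cfsg.Agent.Lib.GolayUnique.Octad

set_option autoImplicit false

namespace CfsgCode

open Cfsg
open scoped symmDiff

variable {α : Type*} [Fintype α] [DecidableEq α]

variable {C D : Submodule (ZMod 2) (α → ZMod 2)} {O : Finset α}

/-- Subsets of the octad completed by the same set off it. -/
def Rel (C D : Submodule (ZMod 2) (α → ZMod 2)) (O x x' : Finset α) : Prop :=
  x ⊆ O ∧ x' ⊆ O ∧ ∃ y, Disjoint y O ∧ chiW x + chiW y ∈ C ∧ chiW x' + chiW y ∈ D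

omit [Fintype α] in
theorem symmDiff_subset' {s t u : Finset α} (hs : s ⊆ u) (ht : t ⊆ u) : s ∆ t ⊆ u := fun a ha => by
  rcases Finset.mem_symmDiff.mp ha with h | h
  exacts [hs h.1, ht h.1]

theorem Rel.swap {x x' : Finset α} (h : Rel C D O x x') : Rel D C O x' x := by
  obtain ⟨h1, h2, y, hy, hc, hd⟩ := h
  exact ⟨h2, h1, y, hy, hd, hc⟩

theorem Rel.add {x x' z z' : Finset α} (h : Rel C D O x x') (h' : Rel C D O z z') :
    Rel C D O (x ∆ z) (x' ∆ z') := by
  obtain ⟨h1, h2, y, hy, hc, hd⟩ := h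
  obtain ⟨g1, g2, y', hy', hc', hd'⟩ := h'
  refine ⟨symmDiff_subset' h1 g1, symmDiff_subset' h2 g2, y ∆ y', ?_, ?_, ?_⟩
  · rw [Finset.disjoint_left]
    intro a ha haO
    rcases Finset.mem_symmDiff.mp ha with h | h
    exacts [Finset.disjoint_left.mp hy h.1 haO, Finset.disjoint_left.mp hy' h.1 haO]
  · have := add_mem hc hc'
    rwa [← chiW_add, ← chiW_add, add_add_add_comm]
  · have := add_mem hd hd'
    rwa [← chiW_add, ← chiW_add, add_add_add_comm]

/-- The two codes agree off the octad. -/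
structure Agree (C D : Submodule (ZMod 2) (α → ZMod 2)) (O : Finset α) : Prop where
  left : OctadIn C O
  right : OctadIn D O
  off : C ⊓ offW O = D ⊓ offW O

theorem Agree.swap (h : Agree C D O) : Agree D C O := ⟨h.right, h.left, h.off.symm⟩

theorem rel_empty (C D : Submodule (ZMod 2) (α → ZMod 2)) (O : Finset α) : Rel C D O ∅ ∅ :=
  ⟨Finset.empty_subset _, Finset.empty_subset _, ∅, Finset.disjoint_empty_left _, by simp [chiW_empty],
    by simp [chiW_empty]⟩

theorem Agree.rel_zero (h : Agree C D O) {x' : Finset α} (hr : Rel C D O ∅ x') : x' = ∅ ∨ x' = O := by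
  obtain ⟨-, hsub, y, hy, hc, hd⟩ := hr
  rw [chiW_empty, zero_add] at hc
  have hyD : chiW y ∈ D := by
    have : chiW y ∈ D ⊓ offW O := h.off ▸ Submodule.mem_inf.mpr ⟨hc, chiW_mem_offW.mpr hy⟩
    exact (Submodule.mem_inf.mp this).1
  have := add_mem hd hyD
  rw [add_assoc, add_self', add_zero] at this
  exact h.right.inside this hsub

theorem Agree.rel_unique (h : Agree C D O) {x x' x'' : Finset α} (h1 : Rel C D O x x') (h2 : Rel C D O x x'') :
    x'' = x' ∨ x'' = O \ x' := by
  have := h1.add h2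
  rw [symmDiff_self] at this
  rcases h.rel_zero this with e | e
  · exact Or.inl (symmDiff_eq_bot.mp e).symm
  · refine Or.inr (Finset.ext fun a => ?_)
    have he := congrArg (fun s : Finset α => a ∈ s) e
    have := @h2.2.1 a
    have := @h1.2.1 a
    simp only [Finset.mem_symmDiff, eq_iff_iff] at he
    rw [Finset.mem_sdiff]
    tauto

theorem Agree.exists_rel (h : Agree C D O) {x : Finset α} (hx : x ⊆ O) (hev : x.card % 2 = 0) :
    ∃ x', Rel C D O x x' := by
  obtain ⟨y, hy, hc⟩ := h.left.exists_off hx hev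
  have hperp : chiW y ∈ perp (D ⊓ offW O) := by
    rw [← h.off]
    intro v hv
    obtain ⟨hv1, hv2⟩ := Submodule.mem_inf.mp hv
    have h1 := h.left.golay.orth v hv1 _ hc
    simp only [Pi.add_apply, mul_add, Finset.sum_add_distrib] at h1
    rwa [Finset.sum_eq_zero (fun a _ => by
      by_cases ha : a ∈ O
      · rw [hv2 a ha, zero_mul]
      · simp [chiW, show a ∉ x from fun hh => ha (hx hh)]), zero_add] at h1
  rw [perp_inter h.right.golay] at hperp
  obtain ⟨c, hcD, z, hz, hsum⟩ := Submodule.mem_sup.mp hperp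
  refine ⟨support₂ z, hx, fun a ha => ?_, y, hy, hc, ?_⟩
  · simp only [support₂, Finset.mem_filter, Finset.mem_univ, true_and] at ha
    by_contra hh
    exact ha (hz a (Finset.mem_compl.mpr hh))
  · rw [chiW_supp, ← hsum, add_comm z, add_assoc, add_self', add_zero]
    exact hcD

theorem Agree.rel_card (h : Agree C D O) {x x' : Finset α} (hr : Rel C D O x x') : x'.card % 4 = x.card % 4 := by
  obtain ⟨h1, h2, y, hy, hc, hd⟩ := hr
  have d1 : Disjoint x y := (Finset.disjoint_of_subset_right h1 hy).symm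
  have d2 : Disjoint x' y := (Finset.disjoint_of_subset_right h2 hy).symm
  rw [chiW_add, d1.symmDiff_eq_sup, Finset.sup_eq_union] at hc
  rw [chiW_add, d2.symmDiff_eq_sup, Finset.sup_eq_union] at hd
  have e1 := h.left.golay.four hc
  have e2 := h.right.golay.four hd
  rw [Finset.card_union_of_disjoint d1] at e1
  rw [Finset.card_union_of_disjoint d2] at e2
  omega

theorem Agree.rel_inj (h : Agree C D O) {x z x' : Finset α} (hx : Rel C D O x x') (hz : Rel C D O z x') :
    z = x ∨ z = O \ x := h.swap.rel_unique hx.swap hz.swap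

theorem Agree.rel_top (h : Agree C D O) : Rel C D O O O :=
  ⟨subset_rfl, subset_rfl, ∅, Finset.disjoint_empty_left _, by rw [chiW_empty, add_zero]; exact h.left.mem.1,
    by rw [chiW_empty, add_zero]; exact h.right.mem.1⟩

theorem Agree.pair_rel (h : Agree C D O) {p : Finset α} (hp : p ⊆ O) (h2 : p.card = 2) :
    ∃! q, Rel C D O p q ∧ q.card = 2 := by
  obtain ⟨q, hq⟩ := h.exists_rel hp (by rw [h2])
  have hm := h.rel_card hq
  have hle : q.card ≤ 8 := h.left.mem.2 ▸ Finset.card_le_card hq.2.1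
  have hex : ∃ q, Rel C D O p q ∧ q.card = 2 := by
    rcases (show q.card = 2 ∨ q.card = 6 by omega) with e | e
    · exact ⟨q, hq, e⟩
    · refine ⟨q ∆ O, ?_, ?_⟩
      · obtain ⟨-, hsub, y, hy, hc, hd⟩ := hq
        refine ⟨hp, symmDiff_subset' hsub subset_rfl, y, hy, hc, ?_⟩
        rw [← chiW_add, add_right_comm]
        exact add_mem hd h.right.mem.1
      · have := card_symmDiff' q O
        rw [Finset.inter_eq_left.mpr hq.2.1, h.left.mem.2, e] at this
        omega
  obtain ⟨q, hq, hq2⟩ := hex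
  refine ⟨q, ⟨hq, hq2⟩, fun r hr => ?_⟩
  rcases h.rel_unique hq hr.1 with e | e
  · exact e
  · have := hr.2
    rw [e, Finset.card_sdiff_of_subset hq.2.1, h.left.mem.2, hq2] at this
    omega

/-- The image pair. -/
noncomputable def tau (h : Agree C D O) (p : Finset α) : Finset α :=
  if hp : p ⊆ O ∧ p.card = 2 then (h.pair_rel hp.1 hp.2).exists.choose else ∅

theorem tau_spec (h : Agree C D O) {p : Finset α} (hp : p ⊆ O) (h2 : p.card = 2) :
    Rel C D O p (tau h p) ∧ (tau h p).card = 2 := by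
  rw [tau, dif_pos ⟨hp, h2⟩]
  exact (h.pair_rel hp h2).exists.choose_spec

theorem tau_eq (h : Agree C D O) {p q : Finset α} (hp : p ⊆ O) (h2 : p.card = 2) (hq : Rel C D O p q)
    (hq2 : q.card = 2) : q = tau h p :=
  (h.pair_rel hp h2).unique ⟨hq, hq2⟩ (tau_spec h hp h2)

theorem tau_inj (h : Agree C D O) {p p' : Finset α} (hp : p ⊆ O) (h2 : p.card = 2) (hp' : p' ⊆ O)
    (h2' : p'.card = 2) (he : tau h p = tau h p') : p = p' := by
  rcases h.rel_inj (tau_spec h hp h2).1 (he ▸ (tau_spec h hp' h2').1) with e | e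
  · exact e.symm
  · rw [e, Finset.card_sdiff_of_subset hp, h.left.mem.2, h2] at h2'
    omega

omit [Fintype α] in
theorem pair_symmDiff {a b c : α} (hab : a ≠ b) (hac : a ≠ c) (hbc : b ≠ c) :
    ({a, b} : Finset α) ∆ {a, c} = {b, c} := by
  ext x
  simp only [Finset.mem_symmDiff, Finset.mem_insert, Finset.mem_singleton]
  by_cases h1 : x = a <;> by_cases h2 : x = b <;> by_cases h3 : x = c <;> simp_all

theorem pair_sub {a b : α} (ha : a ∈ O) (hb : b ∈ O) : ({a, b} : Finset α) ⊆ O := by
  intro x hx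
  rcases Finset.mem_insert.mp hx with rfl | hx
  · exact ha
  · rwa [Finset.mem_singleton.mp hx]

theorem tau_meet (h : Agree C D O) {a b c : α} (ha : a ∈ O) (hb : b ∈ O) (hc : c ∈ O) (hab : a ≠ b)
    (hac : a ≠ c) (hbc : b ≠ c) :
    tau h {b, c} = tau h {a, b} ∆ tau h {a, c} ∧ (tau h {a, b} ∩ tau h {a, c}).card = 1 := by
  obtain ⟨r1, c1⟩ := tau_spec h (pair_sub ha hb) (Finset.card_pair hab)
  obtain ⟨r2, c2⟩ := tau_spec h (pair_sub ha hc) (Finset.card_pair hac)
  have hr := r1.add r2
  rw [pair_symmDiff hab hac hbc] at hr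
  have hm := h.rel_card hr
  rw [Finset.card_pair hbc] at hm
  have := card_symmDiff' (tau h {a, b}) (tau h {a, c})
  refine ⟨(tau_eq h (pair_sub hb hc) (Finset.card_pair hbc) hr (by omega)).symm, by omega⟩

theorem star_point (h : Agree C D O) {a : α} (ha : a ∈ O) :
    ∃ z ∈ O, ∀ b ∈ O, b ≠ a → z ∈ tau h {a, b} := by
  obtain ⟨b, hb⟩ := Finset.card_pos.mp (show 0 < (O.erase a).card by
    rw [Finset.card_erase_of_mem ha, h.left.mem.2]; norm_num)
  obtain ⟨hba, hbO⟩ := Finset.mem_erase.mp hb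
  obtain ⟨c, hc⟩ := Finset.card_pos.mp (show 0 < ((O.erase a).erase b).card by
    rw [Finset.card_erase_of_mem hb, Finset.card_erase_of_mem ha, h.left.mem.2]; norm_num)
  obtain ⟨hcb, hc'⟩ := Finset.mem_erase.mp hc
  obtain ⟨hca, hcO⟩ := Finset.mem_erase.mp hc'
  obtain ⟨hS, h1⟩ := tau_meet h ha hbO hcO hba.symm hca.symm (Ne.symm hcb)
  obtain ⟨z, hz⟩ := Finset.card_eq_one.mp h1
  have hzb : z ∈ tau h {a, b} ∧ z ∈ tau h {a, c} := Finset.mem_inter.mp (by rw [hz]; exact Finset.mem_singleton_self z)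
  refine ⟨z, (tau_spec h (pair_sub ha hbO) (Finset.card_pair hba.symm)).1.2.1 hzb.1, fun d hd hda => ?_⟩
  by_cases hdb : d = b
  · subst hdb; exact hzb.1
  by_cases hdc : d = c
  · subst hdc; exact hzb.2
  by_contra hzd
  obtain ⟨-, m1⟩ := tau_meet h ha hbO hd hba.symm (Ne.symm hda) (Ne.symm hdb)
  obtain ⟨-, m2⟩ := tau_meet h ha hcO hd hca.symm (Ne.symm hda) (Ne.symm hdc)
  obtain ⟨u, hu⟩ := Finset.card_eq_one.mp m1
  obtain ⟨w, hw⟩ := Finset.card_eq_one.mp m2
  have hu' : u ∈ tau h {a, b} ∧ u ∈ tau h {a, d} := Finset.mem_inter.mp (by rw [hu]; exact Finset.mem_singleton_self u)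
  have hw' : w ∈ tau h {a, c} ∧ w ∈ tau h {a, d} := Finset.mem_inter.mp (by rw [hw]; exact Finset.mem_singleton_self w)
  have huz : u ≠ z := fun e => hzd (e ▸ hu'.2)
  have hwz : w ≠ z := fun e => hzd (e ▸ hw'.2)
  have huc : u ∉ tau h {a, c} := fun hh => huz (Finset.mem_singleton.mp (hz ▸ Finset.mem_inter.mpr ⟨hu'.1, hh⟩))
  have hwb : w ∉ tau h {a, b} := fun hh => hwz (Finset.mem_singleton.mp (hz ▸ Finset.mem_inter.mpr ⟨hh, hw'.1⟩))
  have huw : u ≠ w := fun e => huc (e ▸ hw'.1)
  have hsub : ({u, w} : Finset α) ⊆ tau h {b, c} := by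
    rw [hS]
    intro x hx
    rw [Finset.mem_insert, Finset.mem_singleton] at hx
    rw [Finset.mem_symmDiff]
    rcases hx with rfl | rfl
    exacts [Or.inl ⟨hu'.1, huc⟩, Or.inr ⟨hw'.1, hwb⟩]
  have e1 := Finset.eq_of_subset_of_card_le hsub (by
    rw [(tau_spec h (pair_sub hbO hcO) (Finset.card_pair (Ne.symm hcb))).2, Finset.card_pair huw])
  have hsub' : ({u, w} : Finset α) ⊆ tau h {a, d} := pair_sub (O := tau h {a, d}) hu'.2 hw'.2
  have e2 := Finset.eq_of_subset_of_card_le hsub' (by
    rw [(tau_spec h (pair_sub ha hd) (Finset.card_pair (Ne.symm hda))).2, Finset.card_pair huw])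
  have e3 := tau_inj h (pair_sub ha hd) (Finset.card_pair (Ne.symm hda)) (pair_sub hbO hcO)
    (Finset.card_pair (Ne.symm hcb)) (e2.symm.trans e1)
  have : a ∈ ({b, c} : Finset α) := e3 ▸ Finset.mem_insert_self a _
  rcases Finset.mem_insert.mp this with e | e
  · exact hba e.symm
  · exact hca (Finset.mem_singleton.mp e).symm

/-- The induced permutation of the octad. -/
noncomputable def sig (h : Agree C D O) (a : α) : α :=
  if ha : a ∈ O then (star_point h ha).choose else a

theorem sig_spec (h : Agree C D O) {a : α} (ha : a ∈ O) :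
    sig h a ∈ O ∧ ∀ b ∈ O, b ≠ a → sig h a ∈ tau h {a, b} := by
  rw [sig, dif_pos ha]
  exact (star_point h ha).choose_spec

theorem sig_injective (h : Agree C D O) : Function.Injective (sig h) := by
  intro a b he
  by_cases ha : a ∈ O
  · by_cases hb : b ∈ O
    · by_contra hne
      obtain ⟨c, hc⟩ := Finset.card_pos.mp (show 0 < ((O.erase a).erase b).card by
        rw [Finset.card_erase_of_mem (Finset.mem_erase.mpr ⟨Ne.symm hne, hb⟩), Finset.card_erase_of_mem ha,
          h.left.mem.2]
        norm_num)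
      obtain ⟨hcb, hc'⟩ := Finset.mem_erase.mp hc
      obtain ⟨hca, hcO⟩ := Finset.mem_erase.mp hc'
      obtain ⟨hS, -⟩ := tau_meet h ha hb hcO hne hca.symm hcb.symm
      have z1 := (sig_spec h ha).2 b hb (Ne.symm hne)
      have z2 := (sig_spec h ha).2 c hcO hca
      have z3 := (sig_spec h hb).2 c hcO hcb
      rw [← he, hS, Finset.mem_symmDiff] at z3
      rcases z3 with ⟨-, z⟩ | ⟨-, z⟩
      exacts [z z2, z z1]
    · have := (sig_spec h ha).1
      rw [he, sig, dif_neg hb] at this
      exact absurd this hb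
  · by_cases hb : b ∈ O
    · have := (sig_spec h hb).1
      rw [← he, sig, dif_neg ha] at this
      exact absurd this ha
    · rwa [sig, dif_neg ha, sig, dif_neg hb] at he

theorem rel_sig (h : Agree C D O) : ∀ x : Finset α, x ⊆ O → x.card % 2 = 0 → Rel C D O x (x.image (sig h)) := by
  intro x
  induction x using Finset.strongInduction with
  | _ x ih =>
    intro hx hev
    by_cases h0 : x = ∅
    · subst h0; rw [Finset.image_empty]; exact rel_empty C D O
    obtain ⟨a, ha⟩ := Finset.nonempty_iff_ne_empty.mpr h0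
    have hpos : 0 < (x.erase a).card := by
      have := Finset.card_pos.mpr ⟨a, ha⟩
      rw [Finset.card_erase_of_mem ha]; omega
    obtain ⟨b, hb⟩ := Finset.card_pos.mp hpos
    obtain ⟨hba, hbx⟩ := Finset.mem_erase.mp hb
    set x0 := (x.erase a).erase b
    have hsub : x0 ⊆ x := fun u hu => Finset.mem_of_mem_erase (Finset.mem_of_mem_erase hu)
    have hlt : x0 ⊂ x := Finset.ssubset_iff_subset_ne.mpr ⟨hsub, fun e => by
      have : a ∈ x0 := e ▸ ha
      exact (Finset.mem_erase.mp (Finset.mem_of_mem_erase this)).1 rfl⟩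
    have r0 := ih x0 hlt (hsub.trans hx) (by
      rw [Finset.card_erase_of_mem hb, Finset.card_erase_of_mem ha]; omega)
    obtain ⟨rp, cp⟩ := tau_spec h (pair_sub (hx ha) (hx hbx)) (Finset.card_pair hba.symm)
    have himg : tau h {a, b} = {sig h a, sig h b} := by
      refine (Finset.eq_of_subset_of_card_le ?_ ?_).symm
      · refine pair_sub (O := tau h {a, b}) ((sig_spec h (hx ha)).2 b (hx hbx) hba) ?_
        rw [Finset.pair_comm]
        exact (sig_spec h (hx hbx)).2 a (hx ha) hba.symm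
      · rw [cp, Finset.card_pair (fun e => hba.symm (sig_injective h e))]
    rw [himg] at rp
    have hr := r0.add rp
    have ex : x0 ∆ {a, b} = x := by
      ext u
      simp only [x0, Finset.mem_symmDiff, Finset.mem_erase, Finset.mem_insert, Finset.mem_singleton]
      by_cases h1 : u = a <;> by_cases h2 : u = b <;> simp_all
    rw [ex] at hr
    convert hr using 1
    conv_lhs => rw [← ex]
    rw [Finset.image_symmDiff _ _ (sig_injective h), Finset.image_insert, Finset.image_singleton]

/-- A permutation of the octad carries one code to the other. -/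
theorem Agree.perm (h : Agree C D O) : ∃ e : Equiv.Perm α, ∀ s : Finset α, chiW s ∈ C → chiW (s.image e) ∈ D := by
  refine ⟨Equiv.ofBijective (sig h) ⟨sig_injective h, Finite.injective_iff_surjective.mp (sig_injective h)⟩,
    fun s hs => ?_⟩
  have hsplit : s = (s ∩ O) ∆ (s \ O) := by
    ext u; simp only [Finset.mem_symmDiff, Finset.mem_inter, Finset.mem_sdiff]; tauto
  have hev : (s ∩ O).card % 2 = 0 := by
    have := h.left.golay.orth (chiW s) hs (chiW O) h.left.mem.1
    rw [dot_chiW, ZMod.natCast_eq_zero_iff] at this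
    exact Nat.mod_eq_zero_of_dvd this
  obtain ⟨-, -, y, hy, hc, hd⟩ := rel_sig h (s ∩ O) Finset.inter_subset_right hev
  have hk : chiW y + chiW (s \ O) ∈ C ⊓ offW O := Submodule.mem_inf.mpr ⟨by
    have h1 := add_mem hc hs
    conv at h1 => enter [2, 2]; rw [hsplit]
    rw [← chiW_add, ← add_assoc, add_right_comm (chiW (s ∩ O)) (chiW y), add_self', zero_add] at h1
    exact h1, add_mem (chiW_mem_offW.mpr hy) (chiW_mem_offW.mpr Finset.sdiff_disjoint)⟩
  rw [h.off] at hk
  have h2 := add_mem hd (Submodule.mem_inf.mp hk).1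
  rw [← add_assoc, add_assoc (chiW _) (chiW y), add_self', add_zero] at h2
  have himg : s.image (sig h) = (s ∩ O).image (sig h) ∆ (s \ O) := by
    conv_lhs => rw [hsplit]
    rw [Finset.image_symmDiff _ _ (sig_injective h)]
    congr 1
    conv_rhs => rw [← Finset.image_id (s := s \ O)]
    exact Finset.image_congr fun u hu => by
      simp only [sig, dif_neg (Finset.mem_sdiff.mp hu).2, id]
  show chiW (s.image (sig h)) ∈ D
  rw [himg, ← chiW_add]
  exact h2

end CfsgCode
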