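/-
Any two self-dual binary codes of length 24 and minimum weight eight are equivalent.
-/
import Cfsg.Agent.Lib.GolayUnique.Pairs

set_option autoImplicit false

namespace CfsgCode

open Cfsg
open scoped symmDiff

variable {α β : Type*} [Fintype α] [DecidableEq α] [Fintype β] [DecidableEq β]

/-- A code transported along a bijection of the points. -/
def mapC (e : α ≃ β) (C : Submodule (ZMod 2) (α → ZMod 2)) : Submodule (ZMod 2) (β → ZMod 2) :=
  C.map ((LinearEquiv.funCongrLeft (ZMod 2) (ZMod 2) e).symm : (α → ZMod 2) →ₗ[ZMod 2] (β → ZMod 2))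

omit [Fintype α] [DecidableEq α] [Fintype β] [DecidableEq β] in
theorem mem_mapC {e : α ≃ β} {C : Submodule (ZMod 2) (α → ZMod 2)} {w : β → ZMod 2} :
    w ∈ mapC e C ↔ (fun a => w (e a)) ∈ C := by
  rw [mapC, Submodule.mem_map_equiv]
  rfl

omit [Fintype α] [DecidableEq α] [Fintype β] [DecidableEq β] in
theorem chiW_comp [DecidableEq α] [DecidableEq β] (e : α ≃ β) (s : Finset β) :
    (fun a => chiW s (e a)) = chiW (s.image e.symm) := by
  funext a
  simp [chiW, Finset.mem_image, Equiv.symm_apply_eq]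

omit [Fintype α] [Fintype β] in
theorem chiW_mem_mapC {e : α ≃ β} {C : Submodule (ZMod 2) (α → ZMod 2)} {s : Finset β} :
    chiW s ∈ mapC e C ↔ chiW (s.image e.symm) ∈ C := by
  rw [mem_mapC, chiW_comp]

omit [Fintype α] [Fintype β] in
theorem chiW_image_mem_mapC {e : α ≃ β} {C : Submodule (ZMod 2) (α → ZMod 2)} {s : Finset α} :
    chiW (s.image e) ∈ mapC e C ↔ chiW s ∈ C := by
  rw [chiW_mem_mapC, Finset.image_image, Equiv.symm_comp_self, Finset.image_id]

theorem IsGolay.map {C : Submodule (ZMod 2) (α → ZMod 2)} (hC : IsGolay C) (e : α ≃ β) : IsGolay (mapC e C) where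
  card24 := by rw [← Fintype.card_congr e, hC.card24]
  dim := by rw [mapC, LinearEquiv.finrank_map_eq, hC.dim]
  orth v hv w hw := by
    rw [← Equiv.sum_comp e fun i => v i * w i]
    exact hC.orth _ (mem_mapC.mp hv) _ (mem_mapC.mp hw)
  min8 s hs hne := by
    rw [← Finset.card_image_of_injective s e.symm.injective]
    exact hC.min8 _ (chiW_mem_mapC.mp hs) (by simpa using hne)

theorem IsGolay.exists_octad {C : Submodule (ZMod 2) (α → ZMod 2)} (hC : IsGolay C) : ∃ O, OctadIn C O := by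
  obtain ⟨u, -, hu⟩ := Finset.exists_subset_card_eq
    (show 5 ≤ (Finset.univ : Finset α).card by rw [Finset.card_univ, hC.card24]; norm_num)
  obtain ⟨O, ⟨hO, -⟩, -⟩ := (octS_steiner hC).2 u hu
  exact ⟨O, hC, hO⟩

theorem exists_dual_one_one {V : Type*} [AddCommGroup V] [Module (ZMod 2) V] {u w : V} (hu : u ≠ 0) (hw : w ≠ 0) :
    ∃ φ : Module.Dual (ZMod 2) V, φ u = 1 ∧ φ w = 1 := by
  have key : ∀ {x : V}, x ≠ 0 → ∃ φ : Module.Dual (ZMod 2) V, φ x = 1 := fun {x} hx => by
    by_contra hh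
    push Not at hh
    exact hx ((Module.forall_dual_apply_eq_zero_iff (ZMod 2) x).mp fun φ =>
      (z2_cases (φ x)).resolve_right (hh φ))
  obtain ⟨φ1, h1⟩ := key hu
  obtain ⟨φ2, h2⟩ := key hw
  rcases z2_cases (φ1 w) with e1 | e1
  · rcases z2_cases (φ2 u) with e2 | e2
    · exact ⟨φ1 + φ2, by simp [h1, e2], by simp [e1, h2]⟩
    · exact ⟨φ2, e2, h2⟩
  · exact ⟨φ1, h1, e1⟩

theorem exists_iso_map {V W : Type*} [AddCommGroup V] [Module (ZMod 2) V] [AddCommGroup W] [Module (ZMod 2) W]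
    [FiniteDimensional (ZMod 2) V] [FiniteDimensional (ZMod 2) W]
    (h : Module.finrank (ZMod 2) V = Module.finrank (ZMod 2) W) {u : V} {w : W} (hu : u ≠ 0) (hw : w ≠ 0) :
    ∃ f : V ≃ₗ[ZMod 2] W, f u = w := by
  let g := LinearEquiv.ofFinrankEq V W h
  obtain ⟨φ, h1, h2⟩ := exists_dual_one_one (u := g u) (w := w) (fun e => hu (g.map_eq_zero_iff.mp e)) hw
  have hφ : φ (g u + w) = 0 := by rw [map_add, h1, h2]; decide
  let T : W →ₗ[ZMod 2] W := LinearMap.id + φ.smulRight (g u + w)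
  have hT : ∀ x, T (T x) = x := by
    intro x
    show (x + φ x • (g u + w)) + φ (x + φ x • (g u + w)) • (g u + w) = x
    rw [map_add φ, map_smul φ, hφ, smul_zero, add_zero, add_assoc, ← add_smul, CharTwo.add_self_eq_zero,
      zero_smul, add_zero]
  refine ⟨g.trans (LinearEquiv.ofInvolutive T hT), ?_⟩
  show g u + φ (g u) • (g u + w) = w
  rw [h1, one_smul, ← add_assoc, ← two_smul (ZMod 2) (g u), show (2 : ZMod 2) = 0 from rfl, zero_smul, zero_add]

variable {C D : Submodule (ZMod 2) (α → ZMod 2)} {O O' : Finset α}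

theorem OctadIn.one_ne (h : OctadIn C O) : h.oneOff ≠ 0 := by
  intro e
  have hc : Oᶜ.card = 16 := by rw [Finset.card_compl, h.golay.card24, h.mem.2]
  obtain ⟨a, ha⟩ := Finset.card_pos.mp (show 0 < Oᶜ.card by omega)
  have := h.eval_one (Finset.mem_compl.mp ha)
  rw [e, map_zero] at this
  exact zero_ne_one this

theorem OctadIn.eval_surj (h : OctadIn C O) (f : Module.Dual (ZMod 2) ↥(C ⊓ offW O)) (hf : f h.oneOff = 1) :
    ∃ a, a ∉ O ∧ evalOff C O a = f := by
  classical
  set V := ↥(C ⊓ offW O)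
  haveI : Finite (Module.Dual (ZMod 2) V) := Module.finite_of_finite (ZMod 2)
  let F := {φ : Module.Dual (ZMod 2) V // φ h.oneOff = 1}
  let ev : {a // a ∉ O} → F := fun a => ⟨evalOff C O a.1, h.eval_one a.2⟩
  have hev : Function.Injective ev := fun a b e => Subtype.ext (h.eval_inj a.2 b.2 (congrArg Subtype.val e))
  have hdual : Nat.card (Module.Dual (ZMod 2) V) = 32 := by
    rw [Module.natCard_eq_pow_finrank (K := ZMod 2), Subspace.dual_finrank_eq, h.off_finrank, Nat.card_zmod]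
    norm_num
  let dbl : F ⊕ F → Module.Dual (ZMod 2) V := Sum.elim Subtype.val fun φ => φ.1 + f
  have hdbl : Function.Injective dbl := by
    intro a b e
    have e1 := congrArg (fun φ : Module.Dual (ZMod 2) V => φ h.oneOff) e
    rcases a with ⟨a, ha⟩ | ⟨a, ha⟩ <;> rcases b with ⟨b, hb⟩ | ⟨b, hb⟩ <;>
      simp only [dbl, Sum.elim_inl, Sum.elim_inr, LinearMap.add_apply, ha, hb, hf] at e e1
    · exact congrArg Sum.inl (Subtype.ext e)
    · exact absurd e1 (by decide)
    · exact absurd e1 (by decide)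
    · exact congrArg Sum.inr (Subtype.ext (add_right_cancel e))
  have h1 := Nat.card_le_card_of_injective dbl hdbl
  rw [Nat.card_sum, hdual] at h1
  have h2 : Nat.card {a // a ∉ O} = 16 := by
    rw [Nat.card_eq_fintype_card, Fintype.card_subtype_compl, Fintype.card_coe, h.golay.card24, h.mem.2]
  have h3 := Nat.card_le_card_of_injective ev hev
  have hb : Function.Bijective ev := (Nat.bijective_iff_injective_and_card ev).mpr ⟨hev, by omega⟩
  obtain ⟨a, ha⟩ := hb.2 ⟨f, hf⟩
  exact ⟨a.1, a.2, congrArg Subtype.val ha⟩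

theorem exists_match (h : OctadIn C O) (h' : OctadIn D O') :
    ∃ e : Equiv.Perm α, O.image e = O' ∧
      ∀ w : α → ZMod 2, w ∈ C → w ∈ offW O → (fun a => w (e.symm a)) ∈ D ⊓ offW O' := by
  classical
  obtain ⟨f, hf⟩ := exists_iso_map (V := ↥(C ⊓ offW O)) (W := ↥(D ⊓ offW O'))
    (h.off_finrank.trans h'.off_finrank.symm) h.one_ne h'.one_ne
  have hex : ∀ a : {a // a ∉ O}, ∃ a', a' ∉ O' ∧
      evalOff D O' a' = (evalOff C O a.1).comp f.symm.toLinearMap := fun a => by
    refine h'.eval_surj _ ?_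
    rw [LinearMap.comp_apply, LinearEquiv.coe_coe, show f.symm h'.oneOff = h.oneOff by
      rw [← hf, f.symm_apply_apply]]
    exact h.eval_one a.2
  choose π hπ hπe using hex
  let π' : {a // a ∉ O} → {a // a ∉ O'} := fun a => ⟨π a, hπ a⟩
  have hinj : Function.Injective π' := by
    intro a b e
    refine Subtype.ext (h.eval_inj a.2 b.2 ?_)
    have e' : π a = π b := congrArg Subtype.val e
    have := (hπe a).symm.trans ((congrArg (evalOff D O') e').trans (hπe b))
    refine LinearMap.ext fun v => ?_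
    simpa using LinearMap.congr_fun this (f v)
  have hcard : Nat.card {a // a ∉ O} = Nat.card {a // a ∉ O'} := by
    simp only [Nat.card_eq_fintype_card, Fintype.card_subtype_compl, Fintype.card_coe, h.mem.2, h'.mem.2]
  let E : {a // a ∉ O} ≃ {a // a ∉ O'} := Equiv.ofBijective π'
    ((Nat.bijective_iff_injective_and_card π').mpr ⟨hinj, hcard⟩)
  let E0 : {a // a ∈ O} ≃ {a // a ∈ O'} := Fintype.equivOfCardEq
    (by rw [Fintype.card_coe, Fintype.card_coe, h.mem.2, h'.mem.2])
  refine ⟨Equiv.subtypeCongr E0 E, ?_, ?_⟩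
  · refine Finset.eq_of_subset_of_card_le (fun x hx => ?_)
      (by rw [Finset.card_image_of_injective _ (Equiv.injective _), h.mem.2, h'.mem.2])
    obtain ⟨a, ha, rfl⟩ := Finset.mem_image.mp hx
    simp [Equiv.subtypeCongr, ha, (E0 ⟨a, ha⟩).2]
  · intro w hw hwO
    set v : ↥(C ⊓ offW O) := ⟨w, hw, hwO⟩
    suffices hh : (fun a => w ((Equiv.subtypeCongr E0 E).symm a)) = (f v : α → ZMod 2) by
      rw [hh]; exact (f v).2
    funext x
    obtain ⟨a, rfl⟩ := (Equiv.subtypeCongr E0 E).surjective x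
    rw [Equiv.symm_apply_apply]
    by_cases ha : a ∈ O
    · rw [hwO a ha]
      have : Equiv.subtypeCongr E0 E a ∈ O' := by simp [Equiv.subtypeCongr, ha, (E0 ⟨a, ha⟩).2]
      exact ((f v).2.2 _ this).symm
    · have hval : Equiv.subtypeCongr E0 E a = π ⟨a, ha⟩ := by simp [Equiv.subtypeCongr, ha, E, π']
      rw [hval]
      have := LinearMap.congr_fun (hπe ⟨a, ha⟩) (f v)
      rw [LinearMap.comp_apply, LinearEquiv.coe_coe, f.symm_apply_apply] at this
      exact this.symm

theorem golay_unique' (hC : IsGolay C) (hD : IsGolay D) :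
    ∃ e : Equiv.Perm α, ∀ s : Finset α, chiW s ∈ C → chiW (s.image e) ∈ D := by
  obtain ⟨O, h⟩ := hC.exists_octad
  obtain ⟨O', h'⟩ := hD.exists_octad
  obtain ⟨e, he, hoff⟩ := exists_match h h'
  have hle : mapC e C ⊓ offW O' ≤ D ⊓ offW O' := by
    intro w hw
    obtain ⟨hw1, hw2⟩ := Submodule.mem_inf.mp hw
    have := hoff (fun a => w (e a)) (mem_mapC.mp hw1) (fun a ha => hw2 _ (he ▸ Finset.mem_image_of_mem e ha))
    simpa using this
  have h'' : OctadIn (mapC e C) O' := ⟨hC.map e, by rw [← he]; exact chiW_image_mem_mapC.mpr h.mem.1,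
    h'.mem.2⟩
  obtain ⟨σ, hσ⟩ := Agree.perm (C := mapC e C) (D := D) (O := O')
    ⟨h'', h', Submodule.eq_of_le_of_finrank_eq hle (h''.off_finrank.trans h'.off_finrank.symm)⟩
  refine ⟨e.trans σ, fun s hs => ?_⟩
  have := hσ _ (chiW_image_mem_mapC.mpr hs)
  rwa [Finset.image_image, ← Equiv.coe_trans] at this

theorem golay_unique {C : Submodule (ZMod 2) (α → ZMod 2)} {D : Submodule (ZMod 2) (β → ZMod 2)}
    (hC : IsGolay C) (hD : IsGolay D) : ∃ e : α ≃ β, ∀ s : Finset α, chiW (s.image e) ∈ D ↔ chiW s ∈ C := by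
  let e0 : α ≃ β := Fintype.equivOfCardEq (hC.card24.trans hD.card24.symm)
  obtain ⟨σ, hσ⟩ := golay_unique' (hC.map e0) hD
  have hle : mapC (e0.trans σ) C ≤ D := by
    intro w hw
    rw [← chiW_supp w] at hw ⊢
    have h1 := hσ ((support₂ w).image σ.symm) (by
      rw [chiW_mem_mapC, Finset.image_image]
      rw [chiW_mem_mapC] at hw
      exact hw)
    rwa [Finset.image_image, Equiv.self_comp_symm, Finset.image_id] at h1
  have heq : mapC (e0.trans σ) C = D :=
    Submodule.eq_of_le_of_finrank_eq hle ((hC.map _).dim.trans hD.dim.symm)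
  exact ⟨e0.trans σ, fun s => by rw [← heq, chiW_image_mem_mapC]⟩

end CfsgCode
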