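/-
The code built from the squares modulo 23 as an instance of the abstract notion, and consequences.
-/
import Cfsg.Agent.Lib.GolayUnique.Unique
import Cfsg.Agent.Lib.Golay.Mathieu
import Cfsg.Agent.Lib.Golay.Modules
import Cfsg.Prelude.Def_Sporadic

set_option autoImplicit false

namespace CfsgCode

open Cfsg CfsgGolay
open scoped Pointwise

attribute [local irreducible] codeL octadL dodecadL slpCodes

theorem mem_octads_iff {s : Finset GolayPt} : s ∈ octads ↔ chiW s ∈ golayCode ∧ s.card = 8 := by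
  show s ∈ wordsOfWeight (golayCode : Set (GolayPt → ZMod 2)) 8 ↔ _
  rw [wordsOfWeight_eq_octS]
  rfl

theorem spanOf_octads : spanOf octads = golayCode := by
  refine le_antisymm (Submodule.span_le.mpr ?_) (golayCode_le_of_octads fun w hw => ?_)
  · rintro _ ⟨o, ho, rfl⟩
    exact (mem_octads_iff.mp ho).1
  · exact Submodule.subset_span ⟨_, hw, chiW_supp w⟩

theorem isGolay_golayCode : IsGolay golayCode := by
  have := (golay_of_steiner (α := GolayPt) (by rw [Fintype.card_option, ZMod.card]) octads_steiner).1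
  rwa [spanOf_octads] at this

theorem chiW_mem_supports {s : Finset GolayPt} :
    s ∈ supports (golayCode : Set (GolayPt → ZMod 2)) ↔ chiW s ∈ golayCode :=
  ⟨fun ⟨w, hw, he⟩ => by rw [← he, chiW_supp]; exact hw, fun h => ⟨chiW s, h, supp_chiW s⟩⟩

theorem image_mem_code {g : Equiv.Perm GolayPt} (hg : g ∈ M24) {s : Finset GolayPt} :
    chiW (s.image g) ∈ golayCode ↔ chiW s ∈ golayCode := by
  constructor
  · intro h
    have := chiW_mem_supports.mp (mem_M24_iff.mp (inv_mem hg) _ (chiW_mem_supports.mpr h))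
    rwa [Finset.image_image, ← Equiv.Perm.coe_mul, inv_mul_cancel, Equiv.Perm.coe_one, Finset.image_id] at this
  · exact fun h => chiW_mem_supports.mp (mem_M24_iff.mp hg _ (chiW_mem_supports.mpr h))

section Words

variable {α : Type*} [Fintype α] [DecidableEq α] {C : Submodule (ZMod 2) (α → ZMod 2)}

theorem isGolay_of_norm (hα : Fintype.card α = 24) (hdim : Module.finrank (ZMod 2) C = 12)
    (horth : ∀ v ∈ C, ∀ w ∈ C, ∑ i, v i * w i = 0) (hmin : ∀ w ∈ C, w ≠ 0 → 8 ≤ hammingNorm w) : IsGolay C := by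
  refine ⟨hα, hdim, horth, fun s hs hne => ?_⟩
  have h := hmin _ hs fun e => hne (chiW_inj (e.trans chiW_empty.symm))
  rwa [hammingNorm_eq, supp_chiW] at h

theorem isGolay_of_four (hα : Fintype.card α = 24) (hdim : Module.finrank (ZMod 2) C = 12)
    (horth : ∀ v ∈ C, ∀ w ∈ C, ∑ i, v i * w i = 0) (h4 : ∀ w ∈ C, 4 ∣ hammingNorm w)
    (hno4 : ∀ w ∈ C, hammingNorm w ≠ 4) : IsGolay C := by
  refine isGolay_of_norm hα hdim horth fun w hw hne => ?_
  have h1 := h4 w hw
  have h2 := hno4 w hw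
  have h3 : hammingNorm w ≠ 0 := fun e => hne (hammingNorm_eq_zero.mp e)
  omega

/-- An isomorphism with the standard code. -/
theorem exists_std (hC : IsGolay C) :
    ∃ e : α ≃ GolayPt, ∀ s : Finset α, chiW (s.image e) ∈ golayCode ↔ chiW s ∈ C :=
  golay_unique hC isGolay_golayCode

theorem std_words (hC : IsGolay C) :
    ∃ e : α ≃ GolayPt, ∀ w : GolayPt → ZMod 2, w ∈ golayCode ↔ (fun i => w (e i)) ∈ C := by
  obtain ⟨e, he⟩ := exists_std hC
  refine ⟨e, fun w => ?_⟩
  conv_rhs => rw [← chiW_supp w, chiW_comp e]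
  rw [← he, Finset.image_image, Equiv.self_comp_symm, Finset.image_id, chiW_supp]

theorem image_symm {β : Type*} [DecidableEq β] (e : α ≃ β) (s : Finset β) : (s.image e.symm).image e = s := by
  rw [Finset.image_image, Equiv.self_comp_symm, Finset.image_id]

theorem octads_image (hC : IsGolay C) :
    ∃ e : α ≃ GolayPt, (∀ s : Finset α, chiW (s.image e) ∈ golayCode ↔ chiW s ∈ C) ∧
      (fun b => b.image e) '' octS C = octads := by
  obtain ⟨e, he⟩ := exists_std hC
  refine ⟨e, he, Set.ext fun s => ⟨?_, fun h => ?_⟩⟩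
  · rintro ⟨b, hb, rfl⟩
    exact mem_octads_iff.mpr ⟨(he b).mpr hb.1, by rw [Finset.card_image_of_injective _ e.injective, hb.2]⟩
  · obtain ⟨h1, h2⟩ := mem_octads_iff.mp h
    exact ⟨s.image e.symm, ⟨(he _).mp (by rwa [image_symm]), by
      rw [Finset.card_image_of_injective _ e.symm.injective, h2]⟩, image_symm e s⟩

end Words

section Transfer

variable {α β : Type*} [Fintype α] [DecidableEq α] [Fintype β] [DecidableEq β]
  {B : Set (Finset α)} {B' : Set (Finset β)}

omit [Fintype α] [Fintype β] in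
theorem smul_sys (g : Equiv.Perm α) (B : Set (Finset α)) : g • B = (fun b => b.image g) '' B := rfl

omit [Fintype α] [Fintype β] in
theorem conj_sys (e : α ≃ β) (he : (fun b => b.image e) '' B = B') {g : Equiv.Perm α} :
    e.permCongr g ∈ setSystemAut B' ↔ g ∈ setSystemAut B := by
  rw [MulAction.mem_stabilizer_iff, MulAction.mem_stabilizer_iff, smul_sys, smul_sys, ← he, Set.image_image]
  have hc : (fun b : Finset α => (b.image e).image (e.permCongr g)) = fun b => (b.image g).image e := by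
    funext b
    rw [Finset.image_image, Finset.image_image]
    exact congrArg (fun f => b.image f) (funext fun a => by simp)
  rw [hc, ← Set.image_image (g := fun b : Finset α => b.image e) (f := fun b : Finset α => b.image g)]
  exact (Finset.image_injective e.injective).image_injective.eq_iff

/-- Isomorphic systems have isomorphic groups. -/
noncomputable def autEquiv (e : α ≃ β) (he : (fun b => b.image e) '' B = B') :
    setSystemAut B ≃* setSystemAut B' where
  toFun g := ⟨e.permCongr g, (conj_sys e he).mpr g.2⟩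
  invFun g := ⟨e.symm.permCongr g, (conj_sys e he).mp (by
    rw [show e.permCongr (e.symm.permCongr g.1) = g.1 by ext x; simp]; exact g.2)⟩
  left_inv g := Subtype.ext (by ext x; simp)
  right_inv g := Subtype.ext (by ext x; simp)
  map_mul' g h := Subtype.ext (by ext x; simp)

omit [Fintype α] [Fintype β] in
theorem autEquiv_smul (e : α ≃ β) (he : (fun b => b.image e) '' B = B') (g : setSystemAut B) (a : α) :
    autEquiv e he g • e a = e (g • a) := by
  show e.permCongr g.1 (e a) = e (g.1 a)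
  simp

/-- Multiple transitivity passes along an equivariant bijection. -/
theorem transfer_trans {G H X Y : Type*} [Group G] [Group H] [MulAction G X] [MulAction H Y] (φ : G ≃* H)
    (e : X ≃ Y) (hφ : ∀ (g : G) (x : X), φ g • e x = e (g • x)) {k : ℕ}
    (h : MulAction.IsMultiplyPretransitive H Y k) : MulAction.IsMultiplyPretransitive G X k := by
  refine MulAction.isMultiplyPretransitive_iff.mpr fun x y => ?_
  obtain ⟨g, hg⟩ := MulAction.isMultiplyPretransitive_iff.mp h (x := x.trans e.toEmbedding)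
    (y := y.trans e.toEmbedding)
  refine ⟨φ.symm g, Function.Embedding.ext fun i => e.injective ?_⟩
  have hi : g • e (x i) = e (y i) := congrArg (fun f : Fin k ↪ Y => f i) hg
  show e (φ.symm g • x i) = e (y i)
  rw [← hφ, φ.apply_symm_apply, hi]

end Transfer

section FiveEight

variable {α β : Type*} [Fintype α] [DecidableEq α] [Fintype β] [DecidableEq β]
  {B : Set (Finset α)} {B' : Set (Finset β)}

theorem sys_std (hα : Fintype.card α = 24) (hB : IsSteinerSystem 5 8 B) :
    ∃ e : α ≃ GolayPt, (fun b => b.image e) '' B = octads := by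
  obtain ⟨e, -, he⟩ := octads_image (golay_of_steiner hα hB).1
  rw [octS_span_steiner hα hB] at he
  exact ⟨e, he⟩

theorem steiner_iso (hα : Fintype.card α = 24) (hβ : Fintype.card β = 24) (hB : IsSteinerSystem 5 8 B)
    (hB' : IsSteinerSystem 5 8 B') : SetSystemIso B B' := by
  obtain ⟨e, he⟩ := sys_std hα hB
  obtain ⟨f, hf⟩ := sys_std hβ hB'
  refine ⟨e.trans f.symm, ?_⟩
  calc (fun b => b.image (e.trans f.symm)) '' B
      = (fun b => b.image f.symm) '' ((fun b => b.image e) '' B) := by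
        rw [Set.image_image]; simp only [Equiv.coe_trans, Finset.image_image]
    _ = (fun b => b.image f.symm) '' ((fun b => b.image f) '' B') := by rw [he, hf]
    _ = B' := by simp [Set.image_image, Finset.image_image]

theorem steiner_aut (hα : Fintype.card α = 24) (hB : IsSteinerSystem 5 8 B) :
    IsM24 (setSystemAut B) ∧ MulAction.IsMultiplyPretransitive (setSystemAut B) α 5 := by
  obtain ⟨e, he⟩ := sys_std hα hB
  let φ := (autEquiv e he).trans (MulEquiv.subgroupCongr M24_eq_octadAut.symm)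
  refine ⟨⟨isSimple_congr φ.symm isSimple_M24, by rw [Nat.card_congr φ.toEquiv, card_M24]⟩, ?_⟩
  exact transfer_trans φ e (fun g a => autEquiv_smul e he g a) (multiply_transitive le_rfl)

end FiveEight

section Cosets

variable {α : Type*} [Fintype α] [DecidableEq α] {C : Submodule (ZMod 2) (α → ZMod 2)}

theorem mk_eq_iff (s : Finset α) (w : α → ZMod 2) :
    (Submodule.Quotient.mk (chiW s) : (α → ZMod 2) ⧸ C) = Submodule.Quotient.mk w ↔ chiW s - w ∈ C :=
  Submodule.Quotient.eq C

theorem supp_cases (u : α → ZMod 2) : u = chiW (support₂ u) := (chiW_supp u).symm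

/-- The words of weight at most four in a coset. -/
theorem coset_words (hC : IsGolay C) (w : α → ZMod 2) :
    (∃ u : α → ZMod 2, {u : α → ZMod 2 | u - w ∈ C ∧ hammingNorm u ≤ 4} = {u} ∧ hammingNorm u ≤ 3) ∨
    ({u : α → ZMod 2 | u - w ∈ C ∧ hammingNorm u ≤ 4}.ncard = 6 ∧
      ∀ u ∈ {u : α → ZMod 2 | u - w ∈ C ∧ hammingNorm u ≤ 4}, hammingNorm u = 4 ∧
        ∀ u' ∈ {u : α → ZMod 2 | u - w ∈ C ∧ hammingNorm u ≤ 4}, u ≠ u' →
          Disjoint (support₂ u) (support₂ u')) := by
  classical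
  rcases coset_cases hC (Submodule.Quotient.mk w) with ⟨⟨s, hs, huniq⟩, t, ht, htq⟩ | ⟨h6, h4, hd⟩
  · left
    obtain rfl := huniq t ⟨ht.trans (by norm_num), htq⟩
    refine ⟨chiW t, Set.ext fun u => ⟨?_, ?_⟩, by rwa [hammingNorm_eq, supp_chiW]⟩
    · rintro ⟨h1, h2⟩
      rw [hammingNorm_eq] at h2
      rw [Set.mem_singleton_iff, ← huniq (support₂ u) ⟨h2, (mk_eq_iff _ _).mpr (by rwa [chiW_supp])⟩, chiW_supp]
    · rintro rfl
      exact ⟨(mk_eq_iff _ _).mp htq, by rw [hammingNorm_eq, supp_chiW]; exact hs.1⟩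
  · right
    set S := ((Finset.univ : Finset α).powersetCard 4).filter fun s =>
      (Submodule.Quotient.mk (chiW s) : (α → ZMod 2) ⧸ C) = Submodule.Quotient.mk w with hS
    have hset : {u : α → ZMod 2 | u - w ∈ C ∧ hammingNorm u ≤ 4} = chiW '' (S : Set (Finset α)) := by
      ext u
      simp only [Set.mem_ofPred_eq, Set.mem_image, hS, Finset.coe_filter, Finset.mem_powersetCard_univ,
        hammingNorm_eq]
      constructor
      · rintro ⟨h1, h2⟩
        have hq := (mk_eq_iff (C := C) (support₂ u) w).mpr (by rwa [chiW_supp])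
        exact ⟨_, ⟨h4 _ h2 hq, hq⟩, chiW_supp u⟩
      · rintro ⟨s, ⟨hs, hq⟩, rfl⟩
        exact ⟨(mk_eq_iff _ _).mp hq, by rw [supp_chiW, hs]⟩
    refine ⟨?_, fun u hu => ?_⟩
    · rw [hset, Set.ncard_image_of_injective _ (fun _ _ => chiW_inj), Set.ncard_coe_finset]
      exact h6
    · obtain ⟨hu1, hu2⟩ := hu
      rw [hammingNorm_eq] at hu2 ⊢
      have hq := (mk_eq_iff (C := C) (support₂ u) w).mpr (by rwa [chiW_supp])
      refine ⟨h4 _ hu2 hq, fun u' hu' hne => ?_⟩
      obtain ⟨hu1', hu2'⟩ := hu'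
      rw [hammingNorm_eq] at hu2'
      have hq' := (mk_eq_iff (C := C) (support₂ u') w).mpr (by rwa [chiW_supp])
      exact hd _ _ (h4 _ hu2 hq) (h4 _ hu2' hq') hq hq' fun e => hne (by rw [← chiW_supp u, e, chiW_supp])

theorem coset_words' (hC : IsGolay C) (w : α → ZMod 2) :
    ({v : α → ZMod 2 | hammingNorm v ≤ 4 ∧ w - v ∈ C}.ncard = 1 ∧
        ∃ v : α → ZMod 2, hammingNorm v ≤ 3 ∧ w - v ∈ C) ∨
    ({v : α → ZMod 2 | hammingNorm v ≤ 4 ∧ w - v ∈ C}.ncard = 6 ∧
        ∀ v : α → ZMod 2, w - v ∈ C → hammingNorm v ≤ 4 → hammingNorm v = 4) := by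
  have hset : {v : α → ZMod 2 | hammingNorm v ≤ 4 ∧ w - v ∈ C} =
      {u : α → ZMod 2 | u - w ∈ C ∧ hammingNorm u ≤ 4} := by
    ext v
    simp only [Set.mem_ofPred_eq]
    rw [and_comm, sub_mem_comm_iff]
  rw [hset]
  rcases coset_words hC w with ⟨u, hu, h3⟩ | ⟨h6, h4⟩
  · exact Or.inl ⟨by rw [hu, Set.ncard_singleton], u, h3, sub_mem_comm_iff.mp
      (hu.symm ▸ Set.mem_singleton u : u ∈ {u : α → ZMod 2 | u - w ∈ C ∧ hammingNorm u ≤ 4}).1⟩
  · exact Or.inr ⟨h6, fun v h1 h2 => (h4 v ⟨sub_mem_comm_iff.mp h1, h2⟩).1⟩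

theorem octad_words (hC : IsGolay C) :
    Submodule.span (ZMod 2) {w : α → ZMod 2 | w ∈ C ∧ hammingNorm w = 8} = C := by
  conv_rhs => rw [← span_octS hC]
  congr 1
  ext w
  constructor
  · rintro ⟨h1, h2⟩
    exact ⟨support₂ w, ⟨by rw [chiW_supp]; exact h1, h2⟩, chiW_supp w⟩
  · rintro ⟨s, ⟨h1, h2⟩, rfl⟩
    exact ⟨h1, by rw [hammingNorm_eq, supp_chiW, h2]⟩

theorem four_dvd (hC : IsGolay C) {w : α → ZMod 2} (hw : w ∈ C) : 4 ∣ hammingNorm w := by
  rw [hammingNorm_eq]
  exact Nat.dvd_of_mod_eq_zero (hC.four (by rw [chiW_supp]; exact hw))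

theorem eight_exists (hC : IsGolay C) : ∃ w ∈ C, hammingNorm w = 8 := by
  obtain ⟨O, hO⟩ := hC.exists_octad
  exact ⟨chiW O, hO.mem.1, by rw [hammingNorm_eq, supp_chiW, hO.mem.2]⟩

end Cosets

end CfsgCode
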