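/-
The systems S(4,7,23) and S(3,6,22) extend to self-dual codes of length 24 and minimum weight eight.
-/
import Cfsg.Agent.Lib.GolayUnique.Steiner

set_option autoImplicit false

namespace CfsgCode

open Cfsg CfsgSteiner
open scoped symmDiff

section Gens

variable {γ : Type*} [Fintype γ] [DecidableEq γ]

/-- Doubly even generators with even meets and no short orthogonal word span a Golay code. -/
theorem golay_of_gens (hγ : Fintype.card γ = 24) {G : Set (Finset γ)}
    (heven : ∀ b ∈ G, ∀ c ∈ G, (b ∩ c).card % 2 = 0) (h4 : ∀ b ∈ G, b.card % 4 = 0)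
    (hmin : ∀ w : Finset γ, chiW w ∈ perp (spanOf G) → w ≠ ∅ → 7 ≤ w.card) : IsGolay (spanOf G) := by
  have hle := span_le_perp heven
  have h1 := dim_le_of_min7 hγ (perp (spanOf G)) hmin
  have h2 := finrank_perp (spanOf G)
  rw [hγ] at h2
  have h3 := Submodule.finrank_mono hle
  refine ⟨hγ, by omega, fun v hv w hw => mem_perp.mp (hle hw) v hv, fun s hs hne => ?_⟩
  have h7 := hmin s (hle hs) hne
  have := span_four heven h4 hs
  omega

end Gens

variable {α : Type*} [Fintype α] [DecidableEq α]

/-- Meets of a set with blocks, all of the same parity. -/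
theorem parity_dist {t k v : ℕ} {B : Set (Finset α)} (hB : IsSteinerSystem t k B) (hv : Fintype.card α = v)
    (htk : t ≤ k) (w : Finset α) {p : ℕ} (hp : ∀ b ∈ B, (b ∩ w).card % 2 = p) :
    ∃ n : ℕ → ℕ, (∀ j, j % 2 ≠ p → n j = 0) ∧ (∀ j, w.card < j → n j = 0) ∧
      (∀ j, n j ≠ 0 → ∃ b ∈ B, (b ∩ w).card = j) ∧
      ∀ i L : ℕ, i ≤ t → L * Nat.choose (k - i) (t - i) = Nat.choose (v - i) (t - i) →
        ∑ j ∈ Finset.range (k + 1), n j * Nat.choose j i = Nat.choose w.card i * L := by
  refine ⟨fun j => (((blocks B).filter ((∅ : Finset α) ⊆ ·)).filter fun d => (d ∩ w).card = j).card,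
    fun j hj => ?_, fun j hj => ?_, fun j hj => ?_, fun i L hi hL => ?_⟩
  · simp only [Finset.card_eq_zero, Finset.filter_eq_empty_iff]
    intro d hd he
    simp only [Finset.mem_filter, mem_blocks] at hd
    exact hj (he ▸ hp d hd.1)
  · simp only [Finset.card_eq_zero, Finset.filter_eq_empty_iff]
    intro d _ he
    have := Finset.card_le_card (Finset.inter_subset_right (s₁ := d) (s₂ := w))
    omega
  · obtain ⟨d, hd⟩ := Finset.card_pos.mp (Nat.pos_of_ne_zero hj)
    simp only [Finset.mem_filter, mem_blocks] at hd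
    exact ⟨d, hd.1.1, hd.2⟩
  · rw [← moment_grouped _ w i (k + 1) (fun d hd => by
      simp only [Finset.mem_filter, mem_blocks] at hd
      have := Finset.card_le_card (Finset.inter_subset_left (s₁ := d) (s₂ := w))
      rw [hB.1 d hd.1] at this
      omega)]
    exact moment hB hv htk (Finset.disjoint_empty_left w) (by simpa using hi) (by simpa using hL)

theorem small_sets_23 (hα : Fintype.card α = 23) {B : Set (Finset α)} (hB : IsSteinerSystem 4 7 B)
    {w : Finset α} {p : ℕ} (hp2 : p < 2) (hp : ∀ b ∈ B, (b ∩ w).card % 2 = p) (hle : w.card + p ≤ 6) :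
    w = ∅ ∧ p = 0 := by
  obtain ⟨n, h0, hbig, -, hmom⟩ := parity_dist hB hα (by norm_num) w hp
  have e0 := hmom 0 253 (by norm_num) (by decide)
  have e1 := hmom 1 77 (by norm_num) (by decide)
  have e2 := hmom 2 21 (by norm_num) (by decide)
  have e3 := hmom 3 5 (by norm_num) (by decide)
  have e4 := hmom 4 1 (by norm_num) (by decide)
  rw [← Finset.card_eq_zero]
  have b2 := hbig 2
  have b3 := hbig 3
  have b4 := hbig 4
  have b5 := hbig 5
  have b6 := hbig 6
  have b7 := hbig 7
  have hc : w.card ≤ 6 := by omega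
  revert e0 e1 e2 e3 e4 b2 b3 b4 b5 b6 b7 hle
  interval_cases p
  · have o1 := h0 1 (by norm_num)
    have o3 := h0 3 (by norm_num)
    have o5 := h0 5 (by norm_num)
    have o7 := h0 7 (by norm_num)
    interval_cases w.card <;>
      simp [Finset.sum_range_succ, o1, o3, o5, o7, Nat.choose_eq_descFactorial_div_factorial, Nat.descFactorial,
        Nat.factorial] <;> omega
  · have o0 := h0 0 (by norm_num)
    have o2 := h0 2 (by norm_num)
    have o4 := h0 4 (by norm_num)
    have o6 := h0 6 (by norm_num)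
    interval_cases w.card <;>
      simp [Finset.sum_range_succ, o0, o2, o4, o6, Nat.choose_eq_descFactorial_div_factorial, Nat.descFactorial,
        Nat.factorial] <;> omega

theorem odd_sets_22 (hα : Fintype.card α = 22) {B : Set (Finset α)} (hB : IsSteinerSystem 3 6 B)
    {w : Finset α} (hp : ∀ b ∈ B, (b ∩ w).card % 2 = 1) : w.card = 7 ∨ w.card = 11 ∨ w.card = 15 := by
  obtain ⟨n, h0, -, -, hmom⟩ := parity_dist hB hα (by norm_num) w hp
  have e0 := hmom 0 77 (by norm_num) (by decide)
  have e1 := hmom 1 21 (by norm_num) (by decide)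
  have e2 := hmom 2 5 (by norm_num) (by decide)
  have e3 := hmom 3 1 (by norm_num) (by decide)
  have o0 := h0 0 (by norm_num)
  have o2 := h0 2 (by norm_num)
  have o4 := h0 4 (by norm_num)
  have o6 := h0 6 (by norm_num)
  have hc : w.card ≤ 22 := hα ▸ Finset.card_le_univ w
  revert e0 e1 e2 e3
  interval_cases w.card <;>
    simp [Finset.sum_range_succ, o0, o2, o4, o6, Nat.choose_eq_descFactorial_div_factorial, Nat.descFactorial,
      Nat.factorial] <;> omega

theorem even_sets_22 (hα : Fintype.card α = 22) {B : Set (Finset α)} (hB : IsSteinerSystem 3 6 B)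
    {w : Finset α} (hp : ∀ b ∈ B, (b ∩ w).card % 2 = 0) (hle : w.card ≤ 6) : w = ∅ ∨ w ∈ B := by
  by_contra hcon
  push Not at hcon
  obtain ⟨hne, hnB⟩ := hcon
  obtain ⟨n, h0, hbig, hex, hmom⟩ := parity_dist hB hα (by norm_num) w hp
  have e0 := hmom 0 77 (by norm_num) (by decide)
  have e1 := hmom 1 21 (by norm_num) (by decide)
  have e2 := hmom 2 5 (by norm_num) (by decide)
  have e3 := hmom 3 1 (by norm_num) (by decide)
  have o1 := h0 1 (by norm_num)
  have o3 := h0 3 (by norm_num)
  have o5 := h0 5 (by norm_num)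
  have b4 := hbig 4
  have b6 := hbig 6
  have hpos : 0 < w.card := Finset.card_pos.mpr hne
  have h6 : w.card = 6 → n 6 = 0 := by
    intro h
    by_contra hn
    obtain ⟨c, hc, he⟩ := hex 6 hn
    have e1 : c ∩ w = c := Finset.eq_of_subset_of_card_le Finset.inter_subset_left (by rw [he, hB.1 c hc])
    have e2 : c ∩ w = w := Finset.eq_of_subset_of_card_le Finset.inter_subset_right (by rw [he, h])
    exact hnB (by rw [← e2, e1]; exact hc)
  revert e0 e1 e2 e3 b4 b6 h6
  interval_cases w.card <;>
    simp [Finset.sum_range_succ, o1, o3, o5, Nat.choose_eq_descFactorial_div_factorial, Nat.descFactorial,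
      Nat.factorial] <;> omega

/-- A block completed by the new points. -/
def lift (m : ℕ) (b : Finset α) : Finset (α ⊕ Fin m) := b.disjSum Finset.univ

omit [Fintype α] [DecidableEq α] in
theorem card_lift (m : ℕ) (b : Finset α) : (lift m b).card = b.card + m := by
  rw [lift, Finset.card_disjSum, Finset.card_univ, Fintype.card_fin]

omit [Fintype α] in
theorem card_lift_inter (m : ℕ) (b : Finset α) (s : Finset (α ⊕ Fin m)) :
    (lift m b ∩ s).card = (b ∩ s.toLeft).card + s.toRight.card := by
  have : lift m b ∩ s = (b ∩ s.toLeft).disjSum s.toRight := by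
    ext x; rcases x with a | i <;> simp [lift]
  rw [this, Finset.card_disjSum]

omit [Fintype α] in
theorem lift_inter_lift (m : ℕ) (b c : Finset α) : (lift m b ∩ lift m c).card = (b ∩ c).card + m := by
  rw [card_lift_inter]
  simp [lift]

theorem card_left_right {m : ℕ} (s : Finset (α ⊕ Fin m)) : s.card = s.toLeft.card + s.toRight.card :=
  Finset.card_toLeft_add_card_toRight.symm

/-- The code of an S(4,7,23). -/
theorem extend_23 (hα : Fintype.card α = 23) {B : Set (Finset α)} (hB : IsSteinerSystem 4 7 B) :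
    ∃ D : Submodule (ZMod 2) (α ⊕ Fin 1 → ZMod 2), IsGolay D ∧ ∀ b ∈ B, chiW (lift 1 b) ∈ D := by
  refine ⟨spanOf (lift 1 '' B), golay_of_gens (by simp [hα]) ?_ ?_ ?_,
    fun b hb => Submodule.subset_span ⟨_, ⟨b, hb, rfl⟩, rfl⟩⟩
  · rintro _ ⟨b, hb, rfl⟩ _ ⟨c, hc, rfl⟩
    rw [lift_inter_lift]
    by_cases h : b = c
    · subst h; rw [Finset.inter_self, hB.1 b hb]
    · obtain ⟨h0, -, h2, -⟩ := dist_4_7_23 hα hB hb
      have := inter_card_lt hB hb hc h
      have := inter_ne_of_zero hc (Ne.symm h) h0
      have := inter_ne_of_zero hc (Ne.symm h) h2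
      omega
  · rintro _ ⟨b, hb, rfl⟩
    rw [card_lift, hB.1 b hb]
  · intro w hw hne
    by_contra hlt
    have hpar : ∀ b ∈ B, (b ∩ w.toLeft).card % 2 = w.toRight.card % 2 := fun b hb => by
      have := perp_span.mp hw _ ⟨b, hb, rfl⟩
      rw [card_lift_inter] at this
      omega
    have hr : w.toRight.card ≤ 1 := (Finset.card_le_univ _).trans (by simp)
    have hc := card_left_right w
    obtain ⟨h1, h2⟩ := small_sets_23 hα hB (Nat.mod_lt _ (by norm_num)) hpar (by omega)
    rw [h1, Finset.card_empty] at hc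
    exact hne (Finset.card_eq_zero.mp (by omega))

/-- The code of an S(3,6,22). -/
theorem extend_22 (hα : Fintype.card α = 22) {B : Set (Finset α)} (hB : IsSteinerSystem 3 6 B) :
    ∃ D : Submodule (ZMod 2) (α ⊕ Fin 2 → ZMod 2), IsGolay D ∧ ∀ b ∈ B, chiW (lift 2 b) ∈ D := by
  have hcard : Fintype.card (α ⊕ Fin 2) = 24 := by simp [hα]
  have heven : ∀ b ∈ lift 2 '' B, ∀ c ∈ lift 2 '' B, (b ∩ c).card % 2 = 0 := by
    rintro _ ⟨b, hb, rfl⟩ _ ⟨c, hc, rfl⟩
    rw [lift_inter_lift]
    by_cases h : b = c
    · subst h; rw [Finset.inter_self, hB.1 b hb]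
    · rcases inter_3_6_22 hα hB hb hc h with h | h <;> omega
  have h4 : ∀ b ∈ lift 2 '' B, b.card % 4 = 0 := by
    rintro _ ⟨b, hb, rfl⟩
    rw [card_lift, hB.1 b hb]
  set C := spanOf (lift 2 '' B) with hC
  set ab : Finset (α ⊕ Fin 2) := lift 2 ∅ with hab
  have habC : chiW ab ∉ C := fun h => by
    have := span_four heven h4 h
    rw [hab, card_lift, Finset.card_empty] at this
    norm_num at this
  obtain ⟨u, hu, hodd⟩ : ∃ u : Finset (α ⊕ Fin 2), chiW u ∈ perp C ∧ (ab ∩ u).card % 2 = 1 := by
    by_contra hh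
    push Not at hh
    refine habC ?_
    rw [← perp_perp C]
    refine chiW_mem_perp.mpr fun t ht => ?_
    have := hh t ht
    rw [Finset.inter_comm]
    omega
  rw [hab, card_lift_inter, Finset.empty_inter, Finset.card_empty, zero_add] at hodd
  have hur : u.toRight.card = 1 := by
    have : u.toRight.card ≤ 2 := (Finset.card_le_univ _).trans (by simp)
    omega
  have hub : ∀ b ∈ B, (b ∩ u.toLeft).card % 2 = 1 := fun b hb => by
    have := perp_span.mp hu _ ⟨b, hb, rfl⟩
    rw [card_lift_inter] at this
    omega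
  have hu4 : u.card % 4 = 0 := by
    have := card_left_right u
    rcases odd_sets_22 hα hB hub with h | h | h <;> omega
  refine ⟨spanOf (lift 2 '' B ∪ {u}), golay_of_gens hcard ?_ ?_ ?_,
    fun b hb => Submodule.subset_span ⟨_, Or.inl ⟨b, hb, rfl⟩, rfl⟩⟩
  · rintro x (hx | rfl) y (hy | rfl)
    · exact heven x hx y hy
    · exact perp_span.mp hu x hx
    · rw [Finset.inter_comm]; exact perp_span.mp hu y hy
    · rw [Finset.inter_self]; omega
  · rintro x (hx | rfl)
    · exact h4 x hx
    · exact hu4
  · intro w hw hne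
    have hall := perp_span.mp hw
    by_contra hlt
    have hc := card_left_right w
    have hr : w.toRight.card ≤ 2 := (Finset.card_le_univ _).trans (by simp)
    have hpar : ∀ b ∈ B, (b ∩ w.toLeft).card % 2 = w.toRight.card % 2 := fun b hb => by
      have := hall _ (Or.inl ⟨b, hb, rfl⟩)
      rw [card_lift_inter] at this
      omega
    have hu' := hall u (Or.inr rfl)
    have hsplit : (u ∩ w).card = (u.toLeft ∩ w.toLeft).card + (u.toRight ∩ w.toRight).card := by
      rw [card_left_right (u ∩ w), Finset.toLeft_inter, Finset.toRight_inter]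
    by_cases h1 : w.toRight.card = 1
    · rcases odd_sets_22 hα hB (w := w.toLeft) (fun b hb => by rw [hpar b hb, h1]) with h | h | h <;> omega
    · rcases even_sets_22 hα hB (w := w.toLeft) (fun b hb => by rw [hpar b hb]; omega) (by omega) with h | h
      · rw [h, Finset.card_empty] at hc
        by_cases h2 : w.toRight.card = 2
        · have hRu : w.toRight = Finset.univ := Finset.eq_univ_of_card _ (by rw [h2, Fintype.card_fin])
          rw [hsplit, h, hRu, Finset.inter_empty, Finset.inter_univ, Finset.card_empty, hur] at hu'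
          norm_num at hu'
        · exact hne (Finset.card_eq_zero.mp (by omega))
      · have h6 := hB.1 _ h
        have hR0 : w.toRight = ∅ := Finset.card_eq_zero.mp (by omega)
        rw [hsplit, hR0, Finset.inter_empty, Finset.card_empty, add_zero, Finset.inter_comm] at hu'
        have := hub _ h
        omega

end CfsgCode
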