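/-
S(4,7,23) and S(3,6,22) as derived systems of the octads, with their groups.
-/
import Cfsg.Agent.Lib.GolayUnique.Bridge
import Cfsg.Agent.Lib.GolayUnique.Extend

set_option autoImplicit false

namespace CfsgCode

open Cfsg CfsgGolay CfsgSteiner
open scoped Pointwise symmDiff

attribute [local irreducible] codeL octadL dodecadL slpCodes

/-! ### The code is spanned, up to one dimension, by the octads through two given points -/

/-- Eleven octads through the points of index 0 and 23. -/
def pairL : List ℕ :=
  [8391797, 8398155, 8412681, 8421811, 8471941, 8524371, 8657159, 8922769, 9440193, 10486557, 12587685]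

/-- Their reduced form. -/
def pairB : List (ℕ × ℕ) :=
  [(0, 13062145), (1, 4845570), (2, 3610628), (3, 7221256), (4, 7903248), (5, 5621792), (6, 1009728),
    (7, 2019456), (8, 4038912), (9, 8077824), (10, 5405696)]

/-- Reduction by the basis. -/
def redMask (m : ℕ) : ℕ := pairB.foldr (fun pr acc => if m.testBit pr.1 then pr.2 ^^^ acc else acc) 0

theorem pairB_checks : (pairB.all fun pr => (spanList pairL).contains pr.2) = true ∧
    (pairL.all fun m => inCode m && Nat.beq (pc m) 8 && decide (m < 2 ^ 24) && m.testBit 0 && m.testBit 23) = true := by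
  decide +kernel

theorem pairB_complete : (codeL.all fun m => (m.testBit 0 != m.testBit 23) || Nat.beq (redMask m) m) = true := by
  unfold codeL
  decide +kernel

/-- The span of the octads containing `P`. -/
def spanAt (P : Finset GolayPt) : Submodule (ZMod 2) (GolayPt → ZMod 2) := spanOf {o | o ∈ octads ∧ P ⊆ o}

theorem pair_span_base {w : GolayPt → ZMod 2} (hw : w ∈ golayCode)
    (he : w none = w (some 0)) : w ∈ spanAt {none, some 0} := by
  set S := spanAt {none, some 0}
  have hL : ∀ e ∈ pairL, wordOf e ∈ S := by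
    intro e hmem
    have h := List.all_eq_true.mp pairB_checks.2 e hmem
    simp only [Bool.and_eq_true, decide_eq_true_eq] at h
    obtain ⟨⟨⟨⟨h1, h2⟩, h3⟩, h4⟩, h5⟩ := h
    refine Submodule.subset_span ⟨toSet e, ⟨toSet_mem_octads ?_, ?_⟩, ?_⟩
    · unfold octadL
      exact List.mem_filter.mpr ⟨mem_codeL_of_inCode h3 h1, by simp [Nat.eq_of_beq_eq_true h2]⟩
    · intro p hp
      rcases Finset.mem_insert.mp hp with rfl | hp
      · rw [mem_toSet]; exact h5
      · rw [Finset.mem_singleton.mp hp, mem_toSet, show idx (some 0) = 0 from rfl]; exact h4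
    · rw [← support_wordOf, chiW_supp]
  have hB : ∀ pr ∈ pairB, wordOf pr.2 ∈ S := fun pr hpr =>
    spanList_subset S pairL hL _ (by simpa using List.all_eq_true.mp pairB_checks.1 pr hpr)
  have hred : ∀ (l : List (ℕ × ℕ)) (m : ℕ), (∀ pr ∈ l, wordOf pr.2 ∈ S) →
      wordOf (l.foldr (fun pr acc => if m.testBit pr.1 then pr.2 ^^^ acc else acc) 0) ∈ S := by
    intro l m
    induction l with
    | nil => intro _; rw [List.foldr_nil, wordOf_zero]; exact zero_mem _
    | cons a l ih =>
      intro h
      rw [List.foldr_cons]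
      have h' := ih fun pr hpr => h pr (List.mem_cons_of_mem _ hpr)
      split_ifs
      · rw [wordOf_xor]; exact add_mem (h a (by simp)) h'
      · exact h'
  have hm := toMask_support_mem hw
  have h := List.all_eq_true.mp pairB_complete _ hm
  have hb : (toMask (support₂ w)).testBit 0 = (toMask (support₂ w)).testBit 23 := by
    refine Bool.eq_iff_iff.mpr ((testBit_toMask (p := some 0)).trans (Iff.trans ?_ (testBit_toMask (p := none)).symm))
    simp [support₂, he]
  rw [hb, bne_self_eq_false, Bool.false_or] at h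
  rw [← wordOf_toMask_support w, ← Nat.eq_of_beq_eq_true h]
  exact hred _ _ hB

theorem map_spanAt {g : Equiv.Perm GolayPt} (hg : g ∈ M24) {P : Finset GolayPt} {w : GolayPt → ZMod 2}
    (hw : (fun p => w (g p)) ∈ spanAt P) : w ∈ spanAt (P.image g) := by
  have hle : spanAt P ≤ mapC g.symm (spanAt (P.image g)) := by
    refine Submodule.span_le.mpr ?_
    rintro _ ⟨o, ⟨ho, hPo⟩, rfl⟩
    rw [SetLike.mem_coe, chiW_mem_mapC]
    refine Submodule.subset_span ⟨_, ⟨mem_octads_iff.mpr ⟨?_, ?_⟩, Finset.image_subset_image hPo⟩, rfl⟩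
    · exact (image_mem_code hg).mpr (mem_octads_iff.mp ho).1
    · rw [Finset.card_image_of_injective _ (Equiv.injective _)]
      exact (mem_octads_iff.mp ho).2
  have := mem_mapC.mp (hle hw)
  simpa using this

theorem comp_mem_code {g : Equiv.Perm GolayPt} (hg : g ∈ M24) {w : GolayPt → ZMod 2} (hw : w ∈ golayCode) :
    (fun p => w (g p)) ∈ golayCode := by
  rw [← chiW_supp w, chiW_comp g (support₂ w)]
  rw [← chiW_supp w] at hw
  exact (image_mem_code (inv_mem hg)).mpr hw

theorem pair_span {p q : GolayPt} (hpq : p ≠ q) {w : GolayPt → ZMod 2} (hw : w ∈ golayCode) (he : w p = w q) :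
    w ∈ spanAt {p, q} := by
  obtain ⟨g, hg, hx⟩ := exists_M24_map (show 2 ≤ 5 by norm_num) (emb2 none (some 0) (by simp)) (emb2 p q hpq)
  have hp : g none = p := hx 0
  have hq : g (some 0) = q := hx 1
  have := map_spanAt hg (P := {none, some 0}) (pair_span_base (comp_mem_code hg hw) (by rw [hp, hq]; exact he))
  rwa [Finset.image_insert, Finset.image_singleton, hp, hq] at this

theorem spanAt_mono {P Q : Finset GolayPt} (h : P ⊆ Q) : spanAt Q ≤ spanAt P :=
  Submodule.span_mono (Set.image_mono fun _ ho => ⟨ho.1, h.trans ho.2⟩)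

theorem point_span {p : GolayPt} {w : GolayPt → ZMod 2} (hw : w ∈ golayCode) : w ∈ spanAt {p} := by
  by_cases h : ∃ q, q ≠ p ∧ w p = w q
  · obtain ⟨q, hq, he⟩ := h
    exact spanAt_mono (by simp) (pair_span hq.symm hw he)
  · push Not at h
    exfalso
    have hG := isGolay_golayCode
    have hmem : chiW (support₂ w) ∈ golayCode := by rw [chiW_supp]; exact hw
    rcases z2_cases (w p) with e | e
    · have hs : support₂ w = Finset.univ.erase p := by
        ext q
        simp only [support₂, Finset.mem_filter, Finset.mem_univ, true_and, Finset.mem_erase, and_true]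
        exact ⟨fun hq e' => hq (e' ▸ e), fun hq hq0 => h q hq (e.trans hq0.symm)⟩
      have := hG.four hmem
      rw [hs, Finset.card_erase_of_mem (Finset.mem_univ p), Finset.card_univ, hG.card24] at this
      norm_num at this
    · have hs : support₂ w = {p} := by
        ext q
        simp only [support₂, Finset.mem_filter, Finset.mem_univ, true_and, Finset.mem_singleton]
        constructor
        · intro hq
          by_contra hne
          exact h q hne (e.trans ((z2_cases (w q)).resolve_left hq).symm)
        · rintro rfl; rw [e]; exact one_ne_zero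
      have := hG.four hmem
      rw [hs, Finset.card_singleton] at this
      norm_num at this

/-! ### Derived systems -/

/-- `B` is the system derived from the octads at the set `P`. -/
structure Model {α : Type*} [Fintype α] [DecidableEq α] (B : Set (Finset α)) (ρ : α ↪ GolayPt)
    (P : Finset GolayPt) : Prop where
  off : ∀ p, p ∉ P ↔ ∃ a, ρ a = p
  blocks : ∀ b : Finset α, b ∈ B ↔ b.image ρ ∪ P ∈ octads

variable {α β : Type*} [Fintype α] [DecidableEq α] [Fintype β] [DecidableEq β]

theorem exists_model_of_code {t k m : ℕ} (htk : t ≤ k) (hkm : k + m = 8) (htm : t + m = 5) {B : Set (Finset α)}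
    (hB : IsSteinerSystem t k B) {D : Submodule (ZMod 2) (α ⊕ Fin m → ZMod 2)} (hD : IsGolay D)
    (hlift : ∀ b ∈ B, chiW (lift m b) ∈ D) :
    ∃ (ρ : α ↪ GolayPt) (P : Finset GolayPt), Model B ρ P ∧ P.card = m := by
  obtain ⟨e, he⟩ := exists_std hD
  refine ⟨⟨fun a => e (Sum.inl a), e.injective.comp Sum.inl_injective⟩,
    (Finset.univ : Finset (Fin m)).image fun i => e (Sum.inr i), ⟨fun p => ?_, fun b => ?_⟩, ?_⟩
  · obtain ⟨x, rfl⟩ := e.surjective p
    rcases x with a | i <;> simp
  · have himg : b.image (fun a => e (Sum.inl a)) ∪ (Finset.univ : Finset (Fin m)).image (fun i => e (Sum.inr i)) =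
        (lift m b).image e := by
      ext p
      simp only [Finset.mem_union, Finset.mem_image, lift, Finset.mem_disjSum]
      constructor
      · rintro (⟨a, ha, rfl⟩ | ⟨i, hi, rfl⟩)
        · exact ⟨_, Or.inl ⟨a, ha, rfl⟩, rfl⟩
        · exact ⟨_, Or.inr ⟨i, hi, rfl⟩, rfl⟩
      · rintro ⟨x, (⟨a, ha, rfl⟩ | ⟨i, hi, rfl⟩), rfl⟩
        · exact Or.inl ⟨a, ha, rfl⟩
        · exact Or.inr ⟨i, hi, rfl⟩
    show b ∈ B ↔ b.image (fun a => e (Sum.inl a)) ∪ _ ∈ octads
    rw [himg, mem_octads_iff, he, Finset.card_image_of_injective _ e.injective, card_lift]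
    constructor
    · exact fun hb => ⟨hlift b hb, by rw [hB.1 b hb, hkm]⟩
    · rintro ⟨h1, h2⟩
      obtain ⟨u, hu, hut⟩ := Finset.exists_subset_card_eq (show t ≤ b.card by omega)
      obtain ⟨c, ⟨hc, huc⟩, -⟩ := hB.2 u hut
      have h5 : 5 ≤ (lift m b ∩ lift m c).card := by
        rw [lift_inter_lift]
        have := Finset.card_le_card (Finset.subset_inter hu huc)
        omega
      have := octad_eq hD (s := lift m b) (t := lift m c) ⟨h1, by rw [card_lift]; omega⟩
        ⟨hlift c hc, by rw [card_lift, hB.1 c hc, hkm]⟩ h5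
      obtain rfl : b = c := by simpa [lift] using congrArg Finset.toLeft this
      exact hc
  · have hinj : Function.Injective fun i : Fin m => e (Sum.inr i) := e.injective.comp Sum.inr_injective
    rw [Finset.card_image_of_injective _ hinj, Finset.card_univ, Fintype.card_fin]

variable {B : Set (Finset α)} {ρ : α ↪ GolayPt} {P : Finset GolayPt}

/-- The points of the model. -/
noncomputable def Model.pts (h : Model B ρ P) : α ≃ {p // p ∉ P} :=
  Equiv.ofBijective (fun a => ⟨ρ a, (h.off _).mpr ⟨a, rfl⟩⟩)
    ⟨fun a b e => ρ.injective (congrArg Subtype.val e), fun p => by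
      obtain ⟨a, ha⟩ := (h.off p.1).mp p.2
      exact ⟨a, Subtype.ext ha⟩⟩

theorem Model.pts_val (h : Model B ρ P) (a : α) : (h.pts a : GolayPt) = ρ a := rfl

theorem Model.preimage (h : Model B ρ P) {o : Finset GolayPt} (hPo : P ⊆ o) :
    (Finset.univ.filter fun a => ρ a ∈ o).image ρ ∪ P = o := by
  ext p
  simp only [Finset.mem_union, Finset.mem_image, Finset.mem_filter, Finset.mem_univ, true_and]
  constructor
  · rintro (⟨a, ha, rfl⟩ | hp)
    exacts [ha, hPo hp]
  · intro hp
    by_cases hP : p ∈ P
    · exact Or.inr hP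
    · obtain ⟨a, rfl⟩ := (h.off p).mp hP
      exact Or.inl ⟨a, hp, rfl⟩

/-- Two models of the same excess are isomorphic. -/
theorem Model.iso (h : Model B ρ P) {B' : Set (Finset β)} {ρ' : β ↪ GolayPt} {P' : Finset GolayPt}
    (h' : Model B' ρ' P') {σ : Equiv.Perm GolayPt} (hσ : σ ∈ M24) (hP : P.image σ = P') : SetSystemIso B B' := by
  have hiff : ∀ p, p ∉ P ↔ σ p ∉ P' := fun p => by
    rw [← hP, Finset.mem_image]
    exact ⟨fun hp ⟨q, hq, e⟩ => hp (σ.injective e ▸ hq), fun hp hq => hp ⟨p, hq, rfl⟩⟩
  let f : α ≃ β := (h.pts.trans (σ.subtypeEquiv hiff)).trans h'.pts.symm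
  have hf : ∀ a, ρ' (f a) = σ (ρ a) := fun a => by
    rw [← h'.pts_val]
    show ((h'.pts (h'.pts.symm _)) : GolayPt) = _
    rw [Equiv.apply_symm_apply]
    rfl
  have himg : ∀ b : Finset α, (b.image f).image ρ' ∪ P' = (b.image ρ ∪ P).image σ := fun b => by
    rw [Finset.image_union, hP, Finset.image_image, Finset.image_image]
    exact congrArg (fun g => b.image g ∪ P') (funext hf)
  have hb : ∀ b : Finset α, b.image f ∈ B' ↔ b ∈ B := fun b => by
    rw [h'.blocks, h.blocks, himg, mem_octads_iff, mem_octads_iff, image_mem_code hσ,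
      Finset.card_image_of_injective _ σ.injective]
  refine ⟨f, Set.ext fun c => ⟨?_, fun hc => ?_⟩⟩
  · rintro ⟨b, hb', rfl⟩
    exact (hb b).mpr hb'
  · have hc' : (c.image f.symm).image f = c := image_symm f c
    exact ⟨c.image f.symm, (hb _).mp (by rw [hc']; exact hc), hc'⟩

/-- The stabiliser of the deleted points. -/
abbrev stP (P : Finset GolayPt) : Subgroup M24 := MulAction.stabilizer M24 P

theorem stP_iff {P : Finset GolayPt} {g : M24} (hg : g ∈ stP P) (p : GolayPt) :
    p ∉ P ↔ (g : Equiv.Perm GolayPt) p ∉ P := by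
  rw [MulAction.mem_stabilizer_iff] at hg
  have h : P.image (g : Equiv.Perm GolayPt) = P := hg
  conv_rhs => rw [← h]
  rw [Finset.mem_image]
  exact ⟨fun hp ⟨q, hq, e⟩ => hp ((Equiv.injective _ e) ▸ hq), fun hp hq => hp ⟨p, hq, rfl⟩⟩

/-- Restriction to the points of the model. -/
noncomputable def Model.res (h : Model B ρ P) (g : stP P) : Equiv.Perm α :=
  (h.pts.trans ((g.1.1).subtypeEquiv (stP_iff g.2))).trans h.pts.symm

theorem Model.res_spec (h : Model B ρ P) (g : stP P) (a : α) : ρ (h.res g a) = g.1.1 (ρ a) := by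
  rw [← h.pts_val]
  show ((h.pts (h.pts.symm _)) : GolayPt) = _
  rw [Equiv.apply_symm_apply]
  rfl

theorem Model.res_mem (h : Model B ρ P) (g : stP P) : h.res g ∈ setSystemAut B := by
  rw [MulAction.mem_stabilizer_iff, smul_sys]
  refine Set.eq_of_subset_of_ncard_le ?_ (le_of_eq ?_) (Set.toFinite _)
  · rintro _ ⟨b, hb, rfl⟩
    have hP : P.image g.1.1 = P := g.2
    rw [h.blocks] at hb ⊢
    have himg : (b.image (h.res g)).image ρ ∪ P = (b.image ρ ∪ P).image g.1.1 := by
      rw [Finset.image_union, hP, Finset.image_image, Finset.image_image]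
      exact congrArg (fun f => b.image f ∪ P) (funext (h.res_spec g))
    rw [himg, mem_octads_iff, image_mem_code g.1.2, Finset.card_image_of_injective _ (Equiv.injective _)]
    exact mem_octads_iff.mp hb
  · exact (Set.ncard_image_of_injective _ (Finset.image_injective (Equiv.injective _))).symm

/-- Restriction as a homomorphism. -/
noncomputable def Model.resHom (h : Model B ρ P) : stP P →* setSystemAut B where
  toFun g := ⟨h.res g, h.res_mem g⟩
  map_one' := Subtype.ext (Equiv.ext fun a => ρ.injective (h.res_spec 1 a))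
  map_mul' g g' := Subtype.ext (Equiv.ext fun a => ρ.injective (by
    show ρ (h.res (g * g') a) = ρ (h.res g (h.res g' a))
    rw [h.res_spec, h.res_spec, h.res_spec]
    rfl))

/-- A permutation fixing all other points of the code is trivial on at most two points. -/
theorem small_support_trivial (hP : P.card ≤ 2) {g : Equiv.Perm GolayPt} (hg : g ∈ M24)
    (hfix : ∀ p, p ∉ P → g p = p) : g = 1 := by
  by_contra hne
  obtain ⟨p, hp⟩ : ∃ p, g p ≠ p := by
    by_contra hh
    push Not at hh
    exact hne (Equiv.ext hh)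
  have hsp : ({p, g p} : Finset GolayPt) ⊆ P := by
    intro x hx
    by_contra hxP
    rcases Finset.mem_insert.mp hx with rfl | hx
    · exact hp (hfix _ hxP)
    · rw [Finset.mem_singleton] at hx
      subst hx
      exact hp (g.injective (hfix _ hxP))
  have hPeq : ({p, g p} : Finset GolayPt) = P :=
    Finset.eq_of_subset_of_card_le hsp (by rw [Finset.card_pair hp.symm]; exact hP)
  have hswap : ∀ x, g x = Equiv.swap p (g p) x := by
    intro x
    by_cases hxP : x ∈ P
    · rw [← hPeq, Finset.mem_insert, Finset.mem_singleton] at hxP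
      rcases hxP with rfl | rfl
      · rw [Equiv.swap_apply_left]
      · rw [Equiv.swap_apply_right]
        by_contra hh
        have : g (g p) ∉ P := by
          rw [← hPeq, Finset.mem_insert, Finset.mem_singleton]
          rintro (e | e)
          exacts [hh e, hp (g.injective e)]
        exact hp (g.injective (g.injective (hfix _ this)))
    · rw [hfix x hxP, Equiv.swap_apply_of_ne_of_ne]
      · intro e; exact hxP (hPeq ▸ by simp [e])
      · intro e; exact hxP (hPeq ▸ by simp [e])
  have hG := isGolay_golayCode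
  have hall : ∀ t : Finset GolayPt, chiW t ∈ golayCode → (t ∩ {p, g p}).card % 2 = 0 := by
    intro t ht
    by_contra hodd
    have hsum := add_mem ht ((image_mem_code hg).mpr ht)
    rw [chiW_add] at hsum
    have hsub : t ∆ t.image g ⊆ {p, g p} := by
      intro x hx
      by_contra hxn
      have hfx : g x = x := hfix x (by rw [← hPeq]; exact hxn)
      have : x ∈ t.image g ↔ x ∈ t := by
        constructor
        · intro hh
          obtain ⟨y, hy, hye⟩ := Finset.mem_image.mp hh
          obtain rfl : y = x := g.injective (hye.trans hfx.symm)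
          exact hy
        · exact fun hh => Finset.mem_image.mpr ⟨x, hh, hfx⟩
      simp [Finset.mem_symmDiff, this] at hx
    have hle := (Finset.card_le_card hsub).trans_eq (Finset.card_pair hp.symm)
    by_cases he : t ∆ t.image g = ∅
    · have heq : t.image g = t := (symmDiff_eq_bot.mp he).symm
      have hiff : p ∈ t ↔ g p ∈ t := by
        constructor
        · exact fun hh => heq ▸ Finset.mem_image_of_mem g hh
        · intro hh
          rw [← heq] at hh
          obtain ⟨y, hy, hye⟩ := Finset.mem_image.mp hh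
          rwa [← g.injective hye]
      apply hodd
      by_cases hpt : p ∈ t
      · rw [Finset.inter_eq_right.mpr (fun x hx => by
          rcases Finset.mem_insert.mp hx with rfl | hx
          · exact hpt
          · rw [Finset.mem_singleton.mp hx]; exact hiff.mp hpt), Finset.card_pair hp.symm]
      · rw [Finset.disjoint_iff_inter_eq_empty.mp (Finset.disjoint_right.mpr fun x hx => by
          rcases Finset.mem_insert.mp hx with rfl | hx
          · exact hpt
          · rw [Finset.mem_singleton.mp hx]; exact fun hh => hpt (hiff.mpr hh)), Finset.card_empty]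
    · have := hG.min8 _ hsum he
      omega
  have hmem : chiW ({p, g p} : Finset GolayPt) ∈ golayCode := by
    rw [← hG.perp_eq]
    exact chiW_mem_perp.mpr hall
  have := hG.four hmem
  rw [Finset.card_pair hp.symm] at this
  norm_num at this

theorem Model.resHom_injective (h : Model B ρ P) (hP : P.card ≤ 2) : Function.Injective h.resHom := by
  rw [injective_iff_map_eq_one]
  intro g hg
  refine Subtype.ext (Subtype.ext (small_support_trivial hP g.1.2 fun p hp => ?_))
  obtain ⟨a, rfl⟩ := (h.off p).mp hp
  rw [← h.res_spec]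
  exact congrArg ρ (congrArg (fun f : setSystemAut B => f.1 a) hg)

theorem Model.span_transport (h : Model B ρ P) {f : Equiv.Perm α} (hf : f ∈ setSystemAut B)
    {g0 : Equiv.Perm GolayPt} (hg0 : ∀ a, g0 (ρ a) = ρ (f a)) (hgP : ∀ p ∈ P, g0 p = p)
    {s : Finset GolayPt} (hs : chiW s ∈ spanAt P) : chiW (s.image g0) ∈ spanAt P := by
  have hle : spanAt P ≤ mapC g0.symm (spanAt P) := by
    refine Submodule.span_le.mpr ?_
    rintro _ ⟨o, ⟨ho, hPo⟩, rfl⟩
    rw [SetLike.mem_coe, chiW_mem_mapC, Equiv.symm_symm]
    set b := Finset.univ.filter fun a => ρ a ∈ o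
    have hb : b ∈ B := (h.blocks b).mpr (by rw [h.preimage hPo]; exact ho)
    have hfb : b.image f ∈ B := by
      rw [MulAction.mem_stabilizer_iff, smul_sys] at hf
      rw [← hf]
      exact ⟨b, hb, rfl⟩
    refine Submodule.subset_span ⟨o.image g0, ⟨?_, ?_⟩, rfl⟩
    · rw [← h.preimage hPo, Finset.image_union, Finset.image_image,
        show P.image g0 = P from (Finset.image_congr (g := id) fun p hp => hgP p hp).trans Finset.image_id,
        show (g0 ∘ ρ : α → GolayPt) = ρ ∘ f from funext hg0, ← Finset.image_image]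
      exact (h.blocks _).mp hfb
    · intro p hp
      exact Finset.mem_image.mpr ⟨p, hPo hp, hgP p hp⟩
  have := chiW_mem_mapC.mp (hle hs)
  rwa [Equiv.symm_symm] at this

theorem spanAt_le (P : Finset GolayPt) : spanAt P ≤ golayCode :=
  Submodule.span_le.mpr (by rintro _ ⟨o, ho, rfl⟩; exact (mem_octads_iff.mp ho.1).1)

theorem spanAt_pair_eq {p q : GolayPt} {z : GolayPt → ZMod 2} (hz : z ∈ spanAt {p, q}) : z p = z q := by
  induction hz using Submodule.span_induction with
  | mem x hx =>
    obtain ⟨o, ⟨-, ho⟩, rfl⟩ := hx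
    have h1 : p ∈ o := ho (by simp)
    have h2 : q ∈ o := ho (by simp)
    simp [chiW, h1, h2]
  | zero => rfl
  | add x y _ _ hx hy => simp [hx, hy]
  | smul d x _ hx => simp [hx]

omit [Fintype α] [Fintype β] in
theorem dot_pair {γ : Type*} [Fintype γ] [DecidableEq γ] {p q : γ} (hpq : p ≠ q) (z : γ → ZMod 2) :
    ∑ x, z x * chiW ({p, q} : Finset γ) x = z p + z q := by
  rw [← Finset.sum_subset (Finset.subset_univ {p, q}) (fun x _ hx => by simp [chiW, hx]), Finset.sum_pair hpq]
  simp [chiW]

omit [Fintype α] [Fintype β] in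
theorem IsGolay.sep {γ : Type*} [Fintype γ] [DecidableEq γ] {D : Submodule (ZMod 2) (γ → ZMod 2)}
    (hD : IsGolay D) {p q : γ} (hpq : p ≠ q) : ∃ u ∈ D, u p + u q = 1 := by
  by_contra hh
  push Not at hh
  have : chiW ({p, q} : Finset γ) ∈ D := by
    rw [← hD.perp_eq]
    intro v hv
    rw [dot_pair hpq]
    exact (z2_cases _).resolve_right (hh v hv)
  have := hD.four this
  rw [Finset.card_pair hpq] at this
  norm_num at this

/-- Splitting off a word separating the pair. -/
theorem pair_decomp {p q : GolayPt} (hpq : p ≠ q) {u w : GolayPt → ZMod 2} (hu : u ∈ golayCode)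
    (hsep : u p + u q = 1) (hw : w ∈ golayCode) : w + (w p + w q) • u ∈ spanAt {p, q} := by
  refine pair_span hpq (add_mem hw (Submodule.smul_mem _ _ hu)) ?_
  simp only [Pi.add_apply, Pi.smul_apply, smul_eq_mul]
  revert hsep
  generalize u p = a
  generalize u q = b
  generalize w p = c
  generalize w q = d
  revert a b c d
  decide

theorem code_le_of_pair {p q : GolayPt} (hpq : p ≠ q) {D : Submodule (ZMod 2) (GolayPt → ZMod 2)}
    (hD : IsGolay D) (hW : spanAt {p, q} ≤ D) {v : GolayPt → ZMod 2} (hv : v ∈ D) (hv' : v ∈ golayCode)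
    (hsep : v p + v q = 1) : D = golayCode := by
  have hle : golayCode ≤ D := fun w hw => by
    have h := add_mem (hW (pair_decomp hpq hv' hsep hw)) (Submodule.smul_mem _ (w p + w q) hv)
    rwa [add_assoc, add_self', add_zero] at h
  exact (Submodule.eq_of_le_of_finrank_eq hle (isGolay_golayCode.dim.trans hD.dim.symm)).symm

/-- The Golay codes containing the octads through a pair. -/
theorem code_pair_cases {p q : GolayPt} (hpq : p ≠ q) {D : Submodule (ZMod 2) (GolayPt → ZMod 2)}
    (hD : IsGolay D) (hW : spanAt {p, q} ≤ D) : D = golayCode ∨ mapC (Equiv.swap p q) D = golayCode := by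
  have hG := isGolay_golayCode
  obtain ⟨u, hu, hus⟩ := hG.sep hpq
  obtain ⟨v, hv, hvs⟩ := hD.sep hpq
  have key : ∀ y : GolayPt → ZMod 2, (∀ z ∈ spanAt {p, q}, ∑ x, z x * y x = 0) → ∑ x, u x * y x = 0 →
      y ∈ golayCode := by
    intro y hy huy
    rw [← hG.perp_eq]
    intro w hw
    have h1 := hy _ (pair_decomp hpq hu hus hw)
    simpa only [Pi.add_apply, Pi.smul_apply, smul_eq_mul, add_mul, mul_assoc, Finset.sum_add_distrib,
      ← Finset.mul_sum, huy, mul_zero, add_zero] using h1
  have hperp : ∀ z ∈ spanAt {p, q}, ∑ x, z x * v x = 0 := fun z hz => hD.orth z (hW hz) v hv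
  rcases z2_cases (∑ x, u x * v x) with e | e
  · exact Or.inl (code_le_of_pair hpq hD hW hv (key v hperp e) hvs)
  · right
    have hτ : (fun x => v (Equiv.swap p q x)) = v + chiW ({p, q} : Finset GolayPt) := by
      have h2 : v p + 1 = v q ∧ v q + 1 = v p := by
        revert hvs; generalize v p = a; generalize v q = b; revert a b; decide
      funext x
      rw [Pi.add_apply, Equiv.swap_apply_def]
      split_ifs with h3 h4
      · subst h3; simp [chiW, h2.1]
      · subst h4; simp [chiW, h2.2]
      · simp [chiW, h3, h4]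
    refine code_le_of_pair hpq (v := v + chiW ({p, q} : Finset GolayPt)) (hD.map _) (fun z hz => ?_) ?_
      (key _ (fun z hz => ?_) ?_) ?_
    · rw [mem_mapC]
      have he := spanAt_pair_eq hz
      convert hW hz using 1
      funext x
      rw [Equiv.swap_apply_def]
      split_ifs with h3 h4
      · rw [h3, he]
      · rw [h4, he]
      · rfl
    · rw [mem_mapC, ← hτ]
      simpa using hv
    · simp only [Pi.add_apply, mul_add, Finset.sum_add_distrib, hperp z hz, dot_pair hpq, spanAt_pair_eq hz,
        CharTwo.add_self_eq_zero, zero_add]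
    · simp only [Pi.add_apply, mul_add, Finset.sum_add_distrib, e, dot_pair hpq, hus]
      decide
    · simp only [Pi.add_apply, chiW, Finset.mem_insert, Finset.mem_singleton, true_or, or_true, if_true]
      revert hvs; generalize v p = a; generalize v q = b; revert a b; decide

theorem Model.resHom_surjective (h : Model B ρ P) (hP : P.card = 1 ∨ P.card = 2) :
    Function.Surjective h.resHom := by
  rintro ⟨f, hf⟩
  set F : Equiv.Perm {p // p ∉ P} := (h.pts.symm.trans f).trans h.pts with hF
  let g0 : Equiv.Perm GolayPt := Equiv.Perm.ofSubtype F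
  have hg0 : ∀ a, g0 (ρ a) = ρ (f a) := fun a => by
    have : g0 (h.pts a : GolayPt) = (F (h.pts a) : GolayPt) := Equiv.Perm.ofSubtype_apply_coe F (h.pts a)
    simp only [hF, Equiv.trans_apply, Equiv.symm_apply_apply] at this
    exact this
  have hgP : ∀ p ∈ P, g0 p = p := fun p hp => Equiv.Perm.ofSubtype_apply_of_not_mem F (not_not.mpr hp)
  suffices hh : ∃ g ∈ M24, (∀ a, g (ρ a) = ρ (f a)) ∧ P.image g = P by
    obtain ⟨g, hg, hga, hgP'⟩ := hh
    exact ⟨⟨⟨g, hg⟩, hgP'⟩, Subtype.ext (Equiv.ext fun a => ρ.injective ((h.res_spec _ a).trans (hga a)))⟩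
  have hid : P.image g0 = P := (Finset.image_congr (g := id) fun p hp => hgP p hp).trans Finset.image_id
  rcases hP with h1 | h2
  · obtain ⟨p, rfl⟩ := Finset.card_eq_one.mp h1
    refine ⟨g0, mem_M24_iff.mpr fun s hs => chiW_mem_supports.mpr ?_, hg0, hid⟩
    have := h.span_transport hf hg0 hgP (s := s) (point_span (chiW_mem_supports.mp hs))
    exact spanAt_le _ this
  · obtain ⟨p, q, hpq, rfl⟩ := Finset.card_eq_two.mp h2
    have hW : spanAt {p, q} ≤ mapC g0 golayCode := fun z hz => by
      rw [← chiW_supp z] at hz ⊢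
      rw [chiW_mem_mapC]
      refine spanAt_le _ (h.span_transport (inv_mem hf) (g0 := g0.symm) (fun a => ?_) (fun x hx => ?_) hz)
      · rw [Equiv.symm_apply_eq, hg0]
        simp
      · rw [Equiv.symm_apply_eq, hgP x hx]
    rcases code_pair_cases hpq (isGolay_golayCode.map g0) hW with hD | hD
    · refine ⟨g0, mem_M24_iff.mpr fun s hs => chiW_mem_supports.mpr ?_, hg0, hid⟩
      rw [← hD]
      exact chiW_image_mem_mapC.mpr (chiW_mem_supports.mp hs)
    · refine ⟨Equiv.swap p q * g0, mem_M24_iff.mpr fun s hs => chiW_mem_supports.mpr ?_, fun a => ?_, ?_⟩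
      · rw [← hD, Equiv.Perm.coe_mul, ← Finset.image_image]
        exact chiW_image_mem_mapC.mpr (chiW_image_mem_mapC.mpr (chiW_mem_supports.mp hs))
      · have h1 : ρ (f a) ∉ ({p, q} : Finset GolayPt) := (h.off _).mpr ⟨_, rfl⟩
        simp only [Finset.mem_insert, Finset.mem_singleton, not_or] at h1
        rw [Equiv.Perm.mul_apply, hg0, Equiv.swap_apply_of_ne_of_ne h1.1 h1.2]
      · rw [Equiv.Perm.coe_mul, ← Finset.image_image, hid, Finset.image_insert, Finset.image_singleton,
          Equiv.swap_apply_left, Equiv.swap_apply_right, Finset.pair_comm]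

/-- The group of a derived system. -/
noncomputable def Model.autEquiv (h : Model B ρ P) (hP : P.card = 1 ∨ P.card = 2) :
    stP P ≃* setSystemAut B :=
  MulEquiv.ofBijective h.resHom ⟨h.resHom_injective (by omega), h.resHom_surjective hP⟩

/-! ### The two systems -/

theorem exists_map_finset {k : ℕ} (hk : k ≤ 5) {P Q : Finset GolayPt} (hP : P.card = k) (hQ : Q.card = k) :
    ∃ g ∈ M24, P.image g = Q := by
  let x := (Finset.equivFinOfCardEq hP).symm.toEmbedding.trans (Function.Embedding.subtype _)
  let y := (Finset.equivFinOfCardEq hQ).symm.toEmbedding.trans (Function.Embedding.subtype _)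
  obtain ⟨g, hg, hxy⟩ := exists_M24_map hk x y
  refine ⟨g, hg, Finset.eq_of_subset_of_card_le (fun q hq => ?_)
    (by rw [Finset.card_image_of_injective _ g.injective, hP, hQ])⟩
  obtain ⟨p, hp, rfl⟩ := Finset.mem_image.mp hq
  have := hxy (Finset.equivFinOfCardEq hP ⟨p, hp⟩)
  simp only [x, y, Function.Embedding.trans_apply, Equiv.coe_toEmbedding, Equiv.symm_apply_apply,
    Function.Embedding.subtype_apply] at this
  rw [this]
  exact ((Finset.equivFinOfCardEq hQ).symm _).2

theorem exists_model_23 (hα : Fintype.card α = 23) (hB : IsSteinerSystem 4 7 B) :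
    ∃ (ρ : α ↪ GolayPt) (P : Finset GolayPt), Model B ρ P ∧ P.card = 1 := by
  obtain ⟨D, hD, hl⟩ := extend_23 hα hB
  exact exists_model_of_code (by norm_num) (by norm_num) (by norm_num) hB hD hl

theorem exists_model_22 (hα : Fintype.card α = 22) (hB : IsSteinerSystem 3 6 B) :
    ∃ (ρ : α ↪ GolayPt) (P : Finset GolayPt), Model B ρ P ∧ P.card = 2 := by
  obtain ⟨D, hD, hl⟩ := extend_22 hα hB
  exact exists_model_of_code (by norm_num) (by norm_num) (by norm_num) hB hD hl

theorem iso_23 (hα : Fintype.card α = 23) (hβ : Fintype.card β = 23) {B' : Set (Finset β)}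
    (hB : IsSteinerSystem 4 7 B) (hB' : IsSteinerSystem 4 7 B') : SetSystemIso B B' := by
  obtain ⟨ρ, P, h, hP⟩ := exists_model_23 hα hB
  obtain ⟨ρ', P', h', hP'⟩ := exists_model_23 hβ hB'
  obtain ⟨σ, hσ, hσP⟩ := exists_map_finset (by norm_num) hP hP'
  exact h.iso h' hσ hσP

theorem iso_22 (hα : Fintype.card α = 22) (hβ : Fintype.card β = 22) {B' : Set (Finset β)}
    (hB : IsSteinerSystem 3 6 B) (hB' : IsSteinerSystem 3 6 B') : SetSystemIso B B' := by
  obtain ⟨ρ, P, h, hP⟩ := exists_model_22 hα hB
  obtain ⟨ρ', P', h', hP'⟩ := exists_model_22 hβ hB'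
  obtain ⟨σ, hσ, hσP⟩ := exists_map_finset (by norm_num) hP hP'
  exact h.iso h' hσ hσP

/-- Transitivity of a derived system. -/
theorem Model.trans (h : Model B ρ P) {k m : ℕ} (hP : P.card = m) (hkm : k + m ≤ 5) :
    MulAction.IsMultiplyPretransitive (setSystemAut B) α k := by
  refine MulAction.isMultiplyPretransitive_iff.mpr fun x y => ?_
  let E : Fin m ↪ GolayPt := (Finset.equivFinOfCardEq hP).symm.toEmbedding.trans (Function.Embedding.subtype _)
  have hE : ∀ j, E j ∈ P := fun j => ((Finset.equivFinOfCardEq hP).symm j).2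
  have mk : ∀ z : Fin k ↪ α, Function.Injective (Fin.append (fun i => ρ (z i)) E) := fun z =>
    Fin.append_injective_iff.mpr ⟨ρ.injective.comp z.injective, E.injective, fun i j e =>
      (h.off _).mpr ⟨_, e⟩ (hE j)⟩
  obtain ⟨g, hg, he⟩ := exists_M24_map hkm ⟨_, mk x⟩ ⟨_, mk y⟩
  have hgE : ∀ j, g (E j) = E j := fun j => by
    have := he (Fin.natAdd k j)
    simpa using this
  have hPimg : P.image g = P := by
    refine Finset.eq_of_subset_of_card_le (fun q hq => ?_) (by rw [Finset.card_image_of_injective _ g.injective])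
    obtain ⟨p, hp, rfl⟩ := Finset.mem_image.mp hq
    have := hgE (Finset.equivFinOfCardEq hP ⟨p, hp⟩)
    simp only [E, Function.Embedding.trans_apply, Equiv.coe_toEmbedding, Equiv.symm_apply_apply,
      Function.Embedding.subtype_apply] at this
    rw [this]; exact hp
  refine ⟨h.resHom ⟨⟨g, hg⟩, hPimg⟩, Function.Embedding.ext fun i => ρ.injective ?_⟩
  show ρ (h.res _ (x i)) = ρ (y i)
  rw [h.res_spec]
  have := he (Fin.castAdd m i)
  simpa using this

theorem aut_23 (hα : Fintype.card α = 23) (hB : IsSteinerSystem 4 7 B) :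
    IsM23 (setSystemAut B) ∧ MulAction.IsMultiplyPretransitive (setSystemAut B) α 4 := by
  obtain ⟨ρ, P, h, hP⟩ := exists_model_23 hα hB
  refine ⟨?_, h.trans hP (by norm_num)⟩
  obtain ⟨p, rfl⟩ := Finset.card_eq_one.mp hP
  have hst : stP ({p} : Finset GolayPt) = MulAction.stabilizer M24 p := by
    ext g
    simp only [MulAction.mem_stabilizer_iff]
    show (({p} : Finset GolayPt).image (g : Equiv.Perm GolayPt) = {p}) ↔ (g : Equiv.Perm GolayPt) p = p
    simp
  let φ := (MulEquiv.subgroupCongr hst).symm.trans (h.autEquiv (Or.inl hP))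
  exact ⟨isSimple_congr φ (isSimple_pointStab p), by rw [← Nat.card_congr φ.toEquiv, card_pointStab]⟩

theorem aut_22 (hα : Fintype.card α = 22) (hB : IsSteinerSystem 3 6 B) :
    Nat.card (setSystemAut B) = 887040 ∧ MulAction.IsMultiplyPretransitive (setSystemAut B) α 3 ∧
      ∃ H : Subgroup (setSystemAut B), H.index = 2 ∧ IsM22 H := by
  obtain ⟨ρ, P, h, hP⟩ := exists_model_22 hα hB
  have htr := h.trans (k := 3) hP (by norm_num)
  obtain ⟨p, q, hpq, rfl⟩ := Finset.card_eq_two.mp hP
  set K : Subgroup M24 := MulAction.stabilizer M24 p ⊓ MulAction.stabilizer M24 q with hK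
  have hle : K ≤ stP {p, q} := by
    intro g hg
    simp only [hK, Subgroup.mem_inf, MulAction.mem_stabilizer_iff] at hg
    show ({p, q} : Finset GolayPt).image (g : Equiv.Perm GolayPt) = {p, q}
    rw [Finset.image_insert, Finset.image_singleton]
    exact congrArg₂ (fun a b => ({a, b} : Finset GolayPt)) hg.1 hg.2
  have hcard : Nat.card (stP ({p, q} : Finset GolayPt)) = 887040 := by
    have horb : MulAction.orbit M24 ({p, q} : Finset GolayPt) =
        ↑((Finset.univ : Finset GolayPt).powersetCard 2) := by
      ext S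
      rw [SetLike.mem_coe, Finset.mem_powersetCard_univ]
      constructor
      · rintro ⟨g, rfl⟩
        show (({p, q} : Finset GolayPt).image (g : Equiv.Perm GolayPt)).card = 2
        rw [Finset.card_image_of_injective _ (Equiv.injective _), Finset.card_pair hpq]
      · intro hS
        obtain ⟨g, hg, he⟩ := exists_map_finset (show 2 ≤ 5 by norm_num) (Finset.card_pair hpq) hS
        exact ⟨⟨g, hg⟩, he⟩
    have h1 := card_stab_mul_orbit ({p, q} : Finset GolayPt)
    rw [horb, Set.ncard_coe_finset, Finset.card_powersetCard, Finset.card_univ, Fintype.card_option, ZMod.card,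
      show Nat.choose (23 + 1) 2 = 276 by decide] at h1
    show Nat.card (MulAction.stabilizer M24 ({p, q} : Finset GolayPt)) = 887040
    omega
  let φ := h.autEquiv (Or.inr hP)
  refine ⟨by rw [← Nat.card_congr φ.toEquiv, hcard], htr, (K.subgroupOf (stP {p, q})).map φ.toMonoidHom, ?_, ?_⟩
  · rw [show ((K.subgroupOf (stP {p, q})).map φ.toMonoidHom).index = _ from
      Subgroup.index_map_of_bijective (f := φ.toMonoidHom) φ.bijective _]
    have h1 := Subgroup.card_mul_index (K.subgroupOf (stP {p, q}))
    rw [Nat.card_congr (Subgroup.subgroupOfEquivOfLe hle).toEquiv, card_pairStab hpq, hcard] at h1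
    omega
  · let ψ := (Subgroup.subgroupOfEquivOfLe hle).symm.trans
      ((K.subgroupOf (stP {p, q})).equivMapOfInjective φ.toMonoidHom φ.injective)
    exact ⟨isSimple_congr ψ (isSimple_pairStab hpq), by rw [← Nat.card_congr ψ.toEquiv, card_pairStab hpq]⟩

end CfsgCode
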